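import Mathlib
import Cfsg.Prelude.Def_TwoFusion

set_option autoImplicit false
set_option linter.unusedSectionVars false

namespace Cfsg.Agent.Helper95.Dec.Basic

variable {G : Type*} [Group G]

/-- the set of products of two elementwise commuting subgroups -/
def prodSub (A B : Subgroup G) (hc : ∀ a ∈ A, ∀ b ∈ B, a * b = b * a) : Subgroup G where
  carrier := {x | ∃ a ∈ A, ∃ b ∈ B, x = a * b}
  one_mem' := ⟨1, A.one_mem, 1, B.one_mem, (mul_one 1).symm⟩
  mul_mem' := by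
    rintro x y ⟨a, ha, b, hb, rfl⟩ ⟨a', ha', b', hb', rfl⟩
    refine ⟨a * a', A.mul_mem ha ha', b * b', B.mul_mem hb hb', ?_⟩
    have h := hc a' ha' b hb
    calc a * b * (a' * b') = a * (b * a') * b' := by group
      _ = a * (a' * b) * b' := by rw [h]
      _ = a * a' * (b * b') := by group
  inv_mem' := by
    rintro x ⟨a, ha, b, hb, rfl⟩
    refine ⟨a⁻¹, A.inv_mem ha, b⁻¹, B.inv_mem hb, ?_⟩
    have h := hc a⁻¹ (A.inv_mem ha) b⁻¹ (B.inv_mem hb)
    rw [mul_inv_rev, h]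

variable {A B Q : Subgroup G}

theorem exists_mul (h : Cfsg.IsInternalDirectProduct A B Q) {q : G} (hq : q ∈ Q) :
    ∃ a ∈ A, ∃ b ∈ B, q = a * b := by
  obtain ⟨-, -, hc, -, hsup⟩ := h
  have hle : A ⊔ B ≤ prodSub A B hc := by
    apply sup_le
    · intro a ha; exact ⟨a, ha, 1, B.one_mem, (mul_one a).symm⟩
    · intro b hb; exact ⟨1, A.one_mem, b, hb, (one_mul b).symm⟩
  rw [← hsup] at hq
  exact hle hq

theorem leA (h : Cfsg.IsInternalDirectProduct A B Q) : A ≤ Q := by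
  obtain ⟨h1, -, -, -, -⟩ := h; exact h1

theorem leB (h : Cfsg.IsInternalDirectProduct A B Q) : B ≤ Q := by
  obtain ⟨-, h1, -, -, -⟩ := h; exact h1

theorem comm (h : Cfsg.IsInternalDirectProduct A B Q) : ∀ a ∈ A, ∀ b ∈ B, a * b = b * a := by
  obtain ⟨-, -, h1, -, -⟩ := h; exact h1

theorem inf_bot (h : Cfsg.IsInternalDirectProduct A B Q) : A ⊓ B = ⊥ := by
  obtain ⟨-, -, -, h1, -⟩ := h; exact h1

theorem unique_dec (h : Cfsg.IsInternalDirectProduct A B Q) {a a' b b' : G} (ha : a ∈ A)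
    (ha' : a' ∈ A) (hb : b ∈ B) (hb' : b' ∈ B) (he : a * b = a' * b') : a = a' ∧ b = b' := by
  have hinf := inf_bot h
  have h1 : a'⁻¹ * a = b' * b⁻¹ := by
    calc a'⁻¹ * a = a'⁻¹ * (a * b) * b⁻¹ := by group
      _ = a'⁻¹ * (a' * b') * b⁻¹ := by rw [he]
      _ = b' * b⁻¹ := by group
  have h2 : a'⁻¹ * a ∈ A ⊓ B :=
    ⟨A.mul_mem (A.inv_mem ha') ha, by rw [h1]; exact B.mul_mem hb' (B.inv_mem hb)⟩
  rw [hinf, Subgroup.mem_bot] at h2
  have h3 : a = a' := (inv_mul_eq_one.mp h2).symm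
  refine ⟨h3, ?_⟩
  rw [h3] at he
  exact mul_left_cancel he

theorem symm (h : Cfsg.IsInternalDirectProduct A B Q) : Cfsg.IsInternalDirectProduct B A Q := by
  obtain ⟨hA, hB, hc, hinf, hsup⟩ := h
  exact ⟨hB, hA, fun b hb a ha => (hc a ha b hb).symm, by rw [inf_comm]; exact hinf,
    by rw [sup_comm]; exact hsup⟩

/-- `A` is normalized by `Q` -/
theorem conj_mem (h : Cfsg.IsInternalDirectProduct A B Q) {q a : G} (hq : q ∈ Q) (ha : a ∈ A) :
    q * a * q⁻¹ ∈ A := by
  obtain ⟨a1, ha1, b1, hb1, rfl⟩ := exists_mul h hq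
  have hc := comm h
  have h1 : b1 * a * b1⁻¹ = a := by
    rw [← hc a ha b1 hb1]; group
  have h2 : a1 * b1 * a * (a1 * b1)⁻¹ = a1 * (b1 * a * b1⁻¹) * a1⁻¹ := by group
  rw [h2, h1]
  exact A.mul_mem (A.mul_mem ha1 ha) (A.inv_mem ha1)

/-- an element of `A` commuting with `A` is central in `Q` -/
theorem central_of (h : Cfsg.IsInternalDirectProduct A B Q) {z : G} (hz : z ∈ A)
    (hzA : ∀ a ∈ A, z * a = a * z) : ∀ q ∈ Q, z * q = q * z := by
  intro q hq
  obtain ⟨a1, ha1, b1, hb1, rfl⟩ := exists_mul h hq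
  have hc := comm h
  calc z * (a1 * b1) = (z * a1) * b1 := by group
    _ = (a1 * z) * b1 := by rw [hzA a1 ha1]
    _ = a1 * (z * b1) := by group
    _ = a1 * (b1 * z) := by rw [hc z hz b1 hb1]
    _ = a1 * b1 * z := by group

/-- a nontrivial finite `p`-subgroup contains a nontrivial element commuting with all of it -/
theorem exists_central {p : ℕ} [Fact p.Prime] [Finite G] (A : Subgroup G) (hA : IsPGroup p A)
    (hne : A ≠ ⊥) : ∃ z ∈ A, z ≠ 1 ∧ ∀ a ∈ A, z * a = a * z := by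
  haveI : Nontrivial A := (Subgroup.nontrivial_iff_ne_bot A).mpr hne
  haveI := hA.center_nontrivial
  obtain ⟨⟨z, hz⟩, hz1⟩ := exists_ne (1 : Subgroup.center A)
  refine ⟨z.1, z.2, ?_, ?_⟩
  · intro h
    apply hz1
    apply Subtype.ext; apply Subtype.ext; exact h
  · intro a ha
    have := Subgroup.mem_center_iff.mp hz ⟨a, ha⟩
    exact (congrArg Subtype.val this).symm

/-- few central elements: no decomposition -/
theorem indec_of_center [Finite G] (h : Cfsg.IsInternalDirectProduct A B Q) (hQ : IsPGroup 2 Q)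
    (hA : A ≠ ⊥) (hB : B ≠ ⊥)
    (hZ : ∀ z1 ∈ Q, ∀ z2 ∈ Q, (∀ q ∈ Q, z1 * q = q * z1) → (∀ q ∈ Q, z2 * q = q * z2) →
      z1 ≠ 1 → z2 ≠ 1 → z1 = z2) : False := by
  haveI : Fact (Nat.Prime 2) := ⟨Nat.prime_two⟩
  obtain ⟨z1, hz1, hz1n, hz1c⟩ := exists_central A (hQ.to_le (leA h)) hA
  obtain ⟨z2, hz2, hz2n, hz2c⟩ := exists_central B (hQ.to_le (leB h)) hB
  have e := hZ z1 (leA h hz1) z2 (leB h hz2) (central_of h hz1 hz1c)
    (central_of (symm h) hz2 hz2c) hz1n hz2n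
  have : z1 ∈ A ⊓ B := ⟨hz1, by rw [e]; exact hz2⟩
  rw [inf_bot h, Subgroup.mem_bot] at this
  exact hz1n this

open Equiv in
theorem transfer {α : Type*} [Fintype α] [DecidableEq α] (P : Subgroup (alternatingGroup α)) :
    (∃ S₁ S₂ : Subgroup (alternatingGroup α), S₁ ≠ ⊥ ∧ S₂ ≠ ⊥ ∧
      Cfsg.IsInternalDirectProduct S₁ S₂ P) ↔
    (∃ A B : Subgroup (Perm α), A ≠ ⊥ ∧ B ≠ ⊥ ∧
      Cfsg.IsInternalDirectProduct A B (P.map (alternatingGroup α).subtype)) := by
  have hinj : Function.Injective (alternatingGroup α).subtype := Subgroup.subtype_injective _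
  constructor
  · rintro ⟨S₁, S₂, h1, h2, hle1, hle2, hc, hinf, hsup⟩
    refine ⟨S₁.map (alternatingGroup α).subtype, S₂.map (alternatingGroup α).subtype, ?_, ?_,
      Subgroup.map_mono hle1, Subgroup.map_mono hle2, ?_, ?_, ?_⟩
    · rwa [Ne, Subgroup.map_eq_bot_iff_of_injective _ hinj]
    · rwa [Ne, Subgroup.map_eq_bot_iff_of_injective _ hinj]
    · rintro _ ⟨a, ha, rfl⟩ _ ⟨b, hb, rfl⟩
      rw [← map_mul, ← map_mul, hc a ha b hb]
    · rw [← Subgroup.map_inf _ _ _ hinj, hinf, Subgroup.map_bot]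
    · rw [← Subgroup.map_sup, hsup]
  · rintro ⟨A, B, h1, h2, hle1, hle2, hc, hinf, hsup⟩
    have hrange : ∀ {C : Subgroup (Perm α)}, C ≤ P.map (alternatingGroup α).subtype →
        (C.comap (alternatingGroup α).subtype).map (alternatingGroup α).subtype = C := by
      intro C hC
      rw [Subgroup.map_comap_eq, Subgroup.range_subtype]
      apply inf_eq_right.mpr
      intro x hx
      obtain ⟨y, -, rfl⟩ := hC hx
      exact y.2
    refine ⟨A.comap (alternatingGroup α).subtype, B.comap (alternatingGroup α).subtype,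
      ?_, ?_, ?_, ?_, ?_, ?_, ?_⟩
    · intro h; apply h1; rw [← hrange hle1, h, Subgroup.map_bot]
    · intro h; apply h2; rw [← hrange hle2, h, Subgroup.map_bot]
    · rw [← Subgroup.map_le_map_iff_of_injective hinj, hrange hle1]; exact hle1
    · rw [← Subgroup.map_le_map_iff_of_injective hinj, hrange hle2]; exact hle2
    · intro a ha b hb
      apply Subtype.ext
      exact hc a.1 ha b.1 hb
    · apply Subgroup.map_injective hinj
      rw [Subgroup.map_inf _ _ _ hinj, hrange hle1, hrange hle2, hinf, Subgroup.map_bot]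
    · apply Subgroup.map_injective hinj
      rw [Subgroup.map_sup, hrange hle1, hrange hle2, hsup]

end Cfsg.Agent.Helper95.Dec.Basic
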