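import Mathlib
import Cfsg.Agent.Lib.Helper95.Pron.Rich
import Cfsg.Agent.Lib.Helper95.Pron.KMR
import Cfsg.Agent.Lib.Helper95.Pron.TwoOrbits
import Cfsg.Agent.Lib.Helper95.SylMax.OddIndex
import Cfsg.Agent.Lib.Helper95.SylMax.InstV4

set_option autoImplicit false
set_option linter.unusedSectionVars false

namespace Cfsg.Agent.Helper95.Dec.Match

open Equiv MulAction
open scoped Pointwise

universe u
variable {α : Type u} [Fintype α] [DecidableEq α]

/-- a Sylow `2`-subgroup of the symmetric group with its matching of transpositions -/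
structure Setup (α : Type u) [Fintype α] [DecidableEq α] where
  P : Sylow 2 (Perm α)
  τ : Perm α
  invol : ∀ x, τ (τ x) = x
  fix1 : ∀ x y, τ x = x → τ y = y → x = y
  memE : ∀ σ : Perm α, (∀ y, σ y = y ∨ σ y = τ y) → σ ∈ (P : Subgroup (Perm α))

theorem exists_setup (P : Sylow 2 (Perm α)) : ∃ X : Setup α, X.P = P := by
  haveI : Fact (Nat.Prime 2) := ⟨Nat.prime_two⟩
  obtain ⟨τ0, hτ0, hfix0⟩ := Pron.Rich.exists_tau α
  obtain ⟨h, hh⟩ := SylMax.InstV4.exists_conj_le P (Pron.Rich.E τ0 hτ0) (Pron.Rich.isPGroup_E hτ0)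
  have hτx : ∀ x, (h * τ0 * h⁻¹) x = h (τ0 (h⁻¹ x)) := fun x => rfl
  refine ⟨⟨P, h * τ0 * h⁻¹, ?_, ?_, ?_⟩, rfl⟩
  · intro x
    rw [hτx, hτx, Pron.Rich.inv_app, hτ0, Pron.Rich.app_inv]
  · intro x y hx hy
    rw [hτx] at hx hy
    have hx' : τ0 (h⁻¹ x) = h⁻¹ x := h.injective (by rw [hx, Pron.Rich.app_inv])
    have hy' : τ0 (h⁻¹ y) = h⁻¹ y := h.injective (by rw [hy, Pron.Rich.app_inv])
    exact h⁻¹.injective (hfix0 _ _ hx' hy')
  · intro σ hσ
    have h1 : h⁻¹ * σ * h ∈ Pron.Rich.E τ0 hτ0 := by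
      intro y
      show h⁻¹ (σ (h y)) = y ∨ h⁻¹ (σ (h y)) = τ0 y
      rcases hσ (h y) with e | e
      · left; rw [e, Pron.Rich.inv_app]
      · right; rw [e, hτx, Pron.Rich.inv_app, Pron.Rich.inv_app]
    have h2 := hh _ h1
    have e : h * (h⁻¹ * σ * h) * h⁻¹ = σ := by group
    rwa [e] at h2

/-- the subgroup of permutations acting like elements of `S` on `U` and on its complement -/
def splitGrp (S : Subgroup (Perm α)) (U : Set α) (hU : ∀ g ∈ S, ∀ z ∈ U, g z ∈ U)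
    (hU' : ∀ g ∈ S, ∀ z, z ∉ U → g z ∉ U) : Subgroup (Perm α) where
  carrier := {h | ∃ g1 ∈ S, ∃ g2 ∈ S, (∀ z ∈ U, h z = g1 z) ∧ (∀ z, z ∉ U → h z = g2 z)}
  one_mem' := ⟨1, S.one_mem, 1, S.one_mem, fun _ _ => rfl, fun _ _ => rfl⟩
  mul_mem' := by
    rintro h h' ⟨g1, hg1, g2, hg2, e1, e2⟩ ⟨g1', hg1', g2', hg2', e1', e2'⟩
    refine ⟨g1 * g1', S.mul_mem hg1 hg1', g2 * g2', S.mul_mem hg2 hg2', ?_, ?_⟩
    · intro z hz
      rw [Perm.mul_apply, Perm.mul_apply, e1' z hz, e1 _ (hU g1' hg1' z hz)]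
    · intro z hz
      rw [Perm.mul_apply, Perm.mul_apply, e2' z hz, e2 _ (hU' g2' hg2' z hz)]
  inv_mem' := by
    rintro h ⟨g1, hg1, g2, hg2, e1, e2⟩
    refine ⟨g1⁻¹, S.inv_mem hg1, g2⁻¹, S.inv_mem hg2, ?_, ?_⟩
    · intro z hz
      apply h.injective
      rw [Pron.Rich.app_inv, e1 _ (hU g1⁻¹ (S.inv_mem hg1) z hz), Pron.Rich.app_inv]
    · intro z hz
      apply h.injective
      rw [Pron.Rich.app_inv, e2 _ (hU' g2⁻¹ (S.inv_mem hg2) z hz), Pron.Rich.app_inv]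

theorem isPGroup_splitGrp (S : Subgroup (Perm α)) (hS : IsPGroup 2 S) (U : Set α)
    (hU : ∀ g ∈ S, ∀ z ∈ U, g z ∈ U) (hU' : ∀ g ∈ S, ∀ z, z ∉ U → g z ∉ U) :
    IsPGroup 2 (splitGrp S U hU hU') := by
  classical
  have hpow : ∀ h g1 g2 : Perm α, (∀ z ∈ U, h z = g1 z) → (∀ z, z ∉ U → h z = g2 z) →
      g1 ∈ S → g2 ∈ S →
      ∀ m : ℕ, (∀ z ∈ U, (h ^ m) z = (g1 ^ m) z) ∧ (∀ z, z ∉ U → (h ^ m) z = (g2 ^ m) z) := by
    intro h g1 g2 e1 e2 hg1 hg2 m
    induction m with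
    | zero => simp
    | succ m ih =>
      constructor
      · intro z hz
        rw [pow_succ, pow_succ, Perm.mul_apply, Perm.mul_apply, e1 z hz]
        exact ih.1 _ (hU g1 hg1 z hz)
      · intro z hz
        rw [pow_succ, pow_succ, Perm.mul_apply, Perm.mul_apply, e2 z hz]
        exact ih.2 _ (hU' g2 hg2 z hz)
  rintro ⟨h, g1, hg1, g2, hg2, e1, e2⟩
  obtain ⟨k1, hk1⟩ := hS ⟨g1, hg1⟩
  obtain ⟨k2, hk2⟩ := hS ⟨g2, hg2⟩
  have hk1' : g1 ^ 2 ^ k1 = 1 := congrArg Subtype.val hk1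
  have hk2' : g2 ^ 2 ^ k2 = 1 := congrArg Subtype.val hk2
  refine ⟨k1 + k2, Subtype.ext ?_⟩
  show h ^ 2 ^ (k1 + k2) = 1
  have h1 : g1 ^ 2 ^ (k1 + k2) = 1 := by rw [pow_add, pow_mul, hk1', one_pow]
  have h2 : g2 ^ 2 ^ (k1 + k2) = 1 := by rw [pow_add, pow_mul', hk2', one_pow]
  ext z
  by_cases hz : z ∈ U
  · rw [(hpow h g1 g2 e1 e2 hg1 hg2 _).1 z hz, h1]
  · rw [(hpow h g1 g2 e1 e2 hg1 hg2 _).2 z hz, h2]

/-- a Sylow `2`-subgroup has an invariant set of every size with odd binomial coefficient -/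
theorem exists_invariant (m : ℕ) (hm : m ≤ Fintype.card α)
    (hodd : ¬ 2 ∣ (Fintype.card α).choose m) (P : Sylow 2 (Perm α)) :
    ∃ U : Set α, U.ncard = m ∧ ∀ g ∈ (P : Subgroup (Perm α)), ∀ z ∈ U, g z ∈ U := by
  classical
  haveI : Fact (Nat.Prime 2) := ⟨Nat.prime_two⟩
  obtain ⟨t, -, ht⟩ := Finset.exists_subset_card_eq (s := (Finset.univ : Finset α)) (n := m)
    (by rwa [Finset.card_univ])
  let s : Set.powersetCard α m := ⟨t, Set.powersetCard.mem_iff.mpr ht⟩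
  haveI : IsPretransitive (Perm α) (Set.powersetCard α m) := Set.powersetCard.isPretransitive
  have hidx : (stabilizer (Perm α) s).index = (Fintype.card α).choose m := by
    rw [index_stabilizer, orbit_eq_univ, Set.ncard_univ, Set.powersetCard.card,
      Nat.card_eq_fintype_card]
  have hs : stabilizer (Perm α) s = stabilizer (Perm α) ((t : Finset α) : Set α) := by
    rw [Set.powersetCard.stabilizer_coe]
    rfl
  obtain ⟨P', hP'⟩ := Pron.KMR.exists_sylow_le (stabilizer (Perm α) s) (by rw [hidx]; exact hodd)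
  obtain ⟨g, hg⟩ := SylMax.InstV4.exists_conj_le P' (P : Subgroup (Perm α)) P.isPGroup'
  refine ⟨(fun y => g⁻¹ y) '' ((t : Finset α) : Set α), ?_, ?_⟩
  · rw [Set.ncard_image_of_injective _ g⁻¹.injective, Set.ncard_coe_finset, ht]
  · rintro v hv _ ⟨y, hy, rfl⟩
    have hw : g * v * g⁻¹ ∈ stabilizer (Perm α) ((t : Finset α) : Set α) := by
      rw [← hs]; exact hP' (hg v hv)
    rw [mem_stabilizer_iff] at hw
    have h1 : (g * v * g⁻¹) • y ∈ (g * v * g⁻¹) • ((t : Finset α) : Set α) :=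
      Set.smul_mem_smul_set hy
    rw [hw] at h1
    refine ⟨(g * v * g⁻¹) y, h1, ?_⟩
    show g⁻¹ (g (v (g⁻¹ y))) = v (g⁻¹ y)
    rw [Pron.Rich.inv_app]

namespace Setup

variable (X : Setup α)

abbrev S : Subgroup (Perm α) := (X.P : Subgroup (Perm α))

def Q : Subgroup (Perm α) := X.S ⊓ alternatingGroup α

def E : Subgroup (Perm α) := Pron.Rich.E X.τ X.invol

theorem pS : IsPGroup 2 X.S := X.P.isPGroup'

theorem mem_E {e : Perm α} : e ∈ X.E ↔ ∀ y, e y = y ∨ e y = X.τ y := Iff.rfl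

theorem E_le : X.E ≤ X.S := fun e he => X.memE e he

theorem Q_le : X.Q ≤ X.S := inf_le_left

theorem pQ : IsPGroup 2 X.Q := X.pS.to_le X.Q_le

theorem sign_of_mem_Q {g : Perm α} (hg : g ∈ X.Q) : Perm.sign g = 1 :=
  Perm.mem_alternatingGroup.mp hg.2

theorem mem_Q {g : Perm α} (hg : g ∈ X.S) (hs : Perm.sign g = 1) : g ∈ X.Q :=
  ⟨hg, Perm.mem_alternatingGroup.mpr hs⟩

theorem swap_mem_E (y : α) : swap y (X.τ y) ∈ X.E := Pron.Rich.swap_mem_E X.invol y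

theorem swap_mem (y : α) : swap y (X.τ y) ∈ X.S := X.E_le (X.swap_mem_E y)

theorem tau_of_swap' {a b : α} (hab : a ≠ b) (h : swap a b ∈ X.S) (ha : X.τ a ≠ a) :
    X.τ a = b := by
  by_contra hne
  have h3 : (swap a b * swap a (X.τ a)).IsThreeCycle :=
    Perm.isThreeCycle_swap_mul_swap_same hab (Ne.symm ha) (fun e => hne e.symm)
  exact Pron.Crux.no_threeCycle X.pS (X.S.mul_mem h (X.swap_mem a)) h3

theorem tau_of_swap {a b : α} (hab : a ≠ b) (h : swap a b ∈ X.S) : X.τ a = b := by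
  by_cases ha : X.τ a = a
  · exfalso
    have hb : X.τ b ≠ b := fun hb => hab (X.fix1 a b ha hb)
    have h' : swap b a ∈ X.S := by rwa [swap_comm]
    have h1 := X.tau_of_swap' (Ne.symm hab) h' hb
    have h2 : X.τ a = b := by rw [← h1, X.invol]
    exact hab (ha.symm.trans h2)
  · exact X.tau_of_swap' hab h ha

theorem comm_tau {g : Perm α} (hg : g ∈ X.S) (x : α) : g (X.τ x) = X.τ (g x) := by
  by_cases hx : X.τ x = x
  · rw [hx]
    by_contra hne
    have h1 : swap (g x) (X.τ (g x)) ∈ X.S := X.swap_mem _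
    have h2 : g⁻¹ * swap (g x) (X.τ (g x)) * g⁻¹⁻¹ ∈ X.S :=
      X.S.mul_mem (X.S.mul_mem (X.S.inv_mem hg) h1) (X.S.inv_mem (X.S.inv_mem hg))
    rw [← swap_apply_apply, Pron.Rich.inv_app] at h2
    have hne' : x ≠ g⁻¹ (X.τ (g x)) := by
      intro h
      apply hne
      have := congrArg g h
      rw [Pron.Rich.app_inv] at this
      exact this
    have := X.tau_of_swap hne' h2
    rw [hx] at this
    exact hne' this
  · have h1 : swap x (X.τ x) ∈ X.S := X.swap_mem x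
    have h2 : g * swap x (X.τ x) * g⁻¹ ∈ X.S :=
      X.S.mul_mem (X.S.mul_mem hg h1) (X.S.inv_mem hg)
    rw [← swap_apply_apply] at h2
    have hne : g x ≠ g (X.τ x) := fun h => hx (g.injective h).symm
    exact (X.tau_of_swap hne h2).symm

theorem fix_of_tau {g : Perm α} (hg : g ∈ X.S) {w : α} (hw : X.τ w = w) : g w = w := by
  have h1 : X.τ (g w) = g w := by rw [← X.comm_tau hg, hw]
  exact X.fix1 _ _ h1 hw

theorem tau_apply_ne {g : Perm α} (hg : g ∈ X.S) {y : α} (hy : X.τ y ≠ y) : X.τ (g y) ≠ g y := by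
  intro h
  apply hy
  rw [← X.comm_tau hg] at h
  exact g.injective h

/-! ### orbits -/

def Orb (x : α) : Set α := {y | ∃ g ∈ X.S, g x = y}

theorem mem_Orb_self (x : α) : x ∈ X.Orb x := ⟨1, X.S.one_mem, rfl⟩

theorem Orb_apply {g : Perm α} (hg : g ∈ X.S) {x y : α} (hy : y ∈ X.Orb x) : g y ∈ X.Orb x := by
  obtain ⟨g', hg', rfl⟩ := hy
  exact ⟨g * g', X.S.mul_mem hg hg', rfl⟩

theorem Orb_symm {x y : α} (hy : y ∈ X.Orb x) : x ∈ X.Orb y := by
  obtain ⟨g, hg, rfl⟩ := hy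
  exact ⟨g⁻¹, X.S.inv_mem hg, Pron.Rich.inv_app g x⟩

theorem Orb_trans {x y z : α} (hy : y ∈ X.Orb x) (hz : z ∈ X.Orb y) : z ∈ X.Orb x := by
  obtain ⟨g, hg, rfl⟩ := hz
  exact X.Orb_apply hg hy

theorem Orb_eq {x y : α} (hy : y ∈ X.Orb x) : X.Orb y = X.Orb x := by
  ext z
  exact ⟨fun hz => X.Orb_trans hy hz, fun hz => X.Orb_trans (X.Orb_symm hy) hz⟩

theorem Orb_tau {x y : α} (hy : y ∈ X.Orb x) : X.τ y ∈ X.Orb x := by
  have := X.Orb_apply (X.swap_mem y) hy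
  rwa [swap_apply_left] at this

theorem Orb_compl {g : Perm α} (hg : g ∈ X.S) {x z : α} (hz : z ∉ X.Orb x) : g z ∉ X.Orb x := by
  intro h
  apply hz
  have := X.Orb_apply (X.S.inv_mem hg) h
  rwa [Pron.Rich.inv_app] at this

theorem ne_of_not_mem {x s z : α} (hs : s ∉ X.Orb x) (hz : z ∈ X.Orb x) :
    z ≠ s ∧ z ≠ X.τ s := by
  constructor
  · intro h; rw [h] at hz; exact hs hz
  · intro h
    rw [h] at hz
    have := X.Orb_tau hz
    rw [X.invol] at this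
    exact hs this

theorem Orb_of_fixed {w : α} (hw : X.τ w = w) {y : α} (hy : y ∈ X.Orb w) : y = w := by
  obtain ⟨g, hg, rfl⟩ := hy
  exact X.fix_of_tau hg hw

theorem Orb_eq_orbit (x : α) : X.Orb x = orbit X.S x := by
  ext y
  constructor
  · rintro ⟨g, hg, rfl⟩
    exact ⟨⟨g, hg⟩, rfl⟩
  · rintro ⟨⟨g, hg⟩, rfl⟩
    exact ⟨g, hg, rfl⟩

theorem card_Orb (x : α) : ∃ j, (X.Orb x).ncard = 2 ^ j := by
  haveI : Fact (Nat.Prime 2) := ⟨Nat.prime_two⟩
  obtain ⟨j, hj⟩ := X.pS.card_orbit x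
  refine ⟨j, ?_⟩
  rw [Orb_eq_orbit, ← Nat.card_coe_set_eq]; exact hj

/-! ### the elementary abelian subgroup -/

theorem dsw_mem_E (y y' : α) : swap y (X.τ y) * swap y' (X.τ y') ∈ X.E :=
  X.E.mul_mem (X.swap_mem_E y) (X.swap_mem_E y')

theorem dsw_mem_Q {y y' : α} (hy : X.τ y ≠ y) (hy' : X.τ y' ≠ y') :
    swap y (X.τ y) * swap y' (X.τ y') ∈ X.Q := by
  refine X.mem_Q (X.E_le (X.dsw_mem_E y y')) ?_
  rw [Perm.sign_mul, Perm.sign_swap (Ne.symm hy), Perm.sign_swap (Ne.symm hy')]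
  rfl

theorem E_sq {e : Perm α} (he : e ∈ X.E) (y : α) : e (e y) = y :=
  Pron.Rich.sq_of_mem_E X.invol he y

theorem E_inv {e : Perm α} (he : e ∈ X.E) : e⁻¹ = e := by
  ext y
  rw [Perm.inv_eq_iff_eq, X.E_sq he]

theorem E_tau {e : Perm α} (he : e ∈ X.E) {y : α} (h : e y = X.τ y) : e (X.τ y) = y := by
  rw [← h, X.E_sq he]

theorem E_fix {e : Perm α} (he : e ∈ X.E) {y : α} (h : e y = y) : e (X.τ y) = X.τ y := by
  rw [X.comm_tau (X.E_le he), h]

theorem E_comm {e d : Perm α} (he : e ∈ X.E) (hd : d ∈ X.E) : e * d = d * e := by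
  ext y
  show e (d y) = d (e y)
  rcases hd y with h1 | h1 <;> rcases he y with h2 | h2
  · rw [h1, h2, h1]
  · rw [h1, h2, X.E_fix hd h1]
  · rw [h1, h2, X.E_fix he h2, h1]
  · rw [h1, h2, X.E_tau he h2, X.E_tau hd h1]

/-- an even element of `S` agreeing with `g` off a pair -/
theorem exists_even_agree {g : Perm α} (hg : g ∈ X.S) {s : α} (hs : X.τ s ≠ s) :
    ∃ q ∈ X.Q, ∀ z, z ≠ s → z ≠ X.τ s → q z = g z := by
  rcases Int.units_eq_one_or (Perm.sign g) with h | h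
  · exact ⟨g, X.mem_Q hg h, fun _ _ _ => rfl⟩
  · refine ⟨g * swap s (X.τ s), X.mem_Q (X.S.mul_mem hg (X.swap_mem s)) ?_, ?_⟩
    · rw [Perm.sign_mul, h, Perm.sign_swap (Ne.symm hs)]
      rfl
    · intro z h1 h2
      rw [Perm.mul_apply, swap_apply_of_ne_of_ne h1 h2]

theorem exists_even_on_Orb {g : Perm α} (hg : g ∈ X.S) {x s : α} (hs : X.τ s ≠ s)
    (hsx : s ∉ X.Orb x) : ∃ q ∈ X.Q, ∀ z ∈ X.Orb x, q z = g z := by
  obtain ⟨q, hq, h⟩ := X.exists_even_agree hg hs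
  exact ⟨q, hq, fun z hz => h z (X.ne_of_not_mem hsx hz).1 (X.ne_of_not_mem hsx hz).2⟩

/-- restriction of an element of `S` to an invariant set stays in `S` -/
theorem restrict_mem (U : Set α) (hU : ∀ g ∈ X.S, ∀ z ∈ U, g z ∈ U) {g : Perm α}
    (hg : g ∈ X.S) : ∃ h ∈ X.S, (∀ z ∈ U, h z = g z) ∧ (∀ z, z ∉ U → h z = z) := by
  classical
  have hU' : ∀ g ∈ X.S, ∀ z, z ∉ U → g z ∉ U := by
    intro g hg z hz hgz
    apply hz
    have := hU g⁻¹ (X.S.inv_mem hg) _ hgz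
    rwa [Pron.Rich.inv_app] at this
  have hT : IsPGroup 2 (splitGrp X.S U hU hU') := isPGroup_splitGrp X.S X.pS U hU hU'
  have hST : X.S ≤ splitGrp X.S U hU hU' :=
    fun s hs => ⟨s, hs, s, hs, fun _ _ => rfl, fun _ _ => rfl⟩
  have hTS : splitGrp X.S U hU hU' = X.S := X.P.is_maximal' hT hST
  let h : Perm α :=
    { toFun := fun z => if z ∈ U then g z else z
      invFun := fun z => if z ∈ U then g⁻¹ z else z
      left_inv := by
        intro z
        by_cases hz : z ∈ U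
        · simp only [if_pos hz, if_pos (hU g hg z hz), Pron.Rich.inv_app]
        · simp only [if_neg hz]
      right_inv := by
        intro z
        by_cases hz : z ∈ U
        · simp only [if_pos hz, if_pos (hU g⁻¹ (X.S.inv_mem hg) z hz), Pron.Rich.app_inv]
        · simp only [if_neg hz] }
  have hh1 : ∀ z ∈ U, h z = g z := fun z hz => if_pos hz
  have hh2 : ∀ z, z ∉ U → h z = z := fun z hz => if_neg hz
  refine ⟨h, ?_, hh1, hh2⟩
  rw [← hTS]
  exact ⟨g, hg, 1, X.S.one_mem, hh1, fun z hz => hh2 z hz⟩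

/-- invariant sets have odd binomial coefficient -/
theorem odd_choose_of_invariant (U : Set α) (hU : ∀ g ∈ X.S, ∀ z ∈ U, g z ∈ U) :
    ¬ 2 ∣ (Fintype.card α).choose U.ncard := by
  apply SylMax.OddIndex.not_dvd_choose (Gt := Perm α)
    (fun _ => Set.powersetCard.isPretransitive) X.P U
  intro g hg
  rw [mem_stabilizer_iff]
  apply Set.Subset.antisymm
  · rintro _ ⟨z, hz, rfl⟩
    exact hU g hg z hz
  · intro z hz
    refine ⟨g⁻¹ z, hU g⁻¹ (X.S.inv_mem hg) z hz, ?_⟩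
    exact Pron.Rich.app_inv g z

end Setup

end Cfsg.Agent.Helper95.Dec.Match
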