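import Mathlib
import Cfsg.Agent.Lib.Helper95.Dec.Match
import Cfsg.Agent.Lib.Helper95.Dec.Basic

set_option autoImplicit false
set_option linter.unusedSectionVars false

namespace Cfsg.Agent.Helper95.Dec.Center

open Equiv MulAction Match

universe u
variable {α : Type u} [Fintype α] [DecidableEq α] (X : Setup α)

/-- an element of `S` commuting with all double transpositions of the matching lies in `E` -/
theorem mem_E_of_comm (hn : 6 ≤ Fintype.card α) {g : Perm α} (hg : g ∈ X.S)
    (hc : ∀ y y', X.τ y ≠ y → X.τ y' ≠ y' →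
      g * (swap y (X.τ y) * swap y' (X.τ y')) = (swap y (X.τ y) * swap y' (X.τ y')) * g) :
    g ∈ X.E := by
  intro y
  by_cases hy : X.τ y = y
  · left; exact X.fix_of_tau hg hy
  · obtain ⟨y1, hy1, hy1T⟩ := Pron.Rich.exists_nonfixed X.fix1 {y, X.τ y} (by
      have := Finset.card_le_two (a := y) (b := X.τ y)
      omega)
    obtain ⟨y2, hy2, hy2T⟩ := Pron.Rich.exists_nonfixed X.fix1 {y, X.τ y, y1, X.τ y1} (by
      have := Finset.card_le_four (a := y) (b := X.τ y) (c := y1) (d := X.τ y1)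
      omega)
    simp only [Finset.mem_insert, Finset.mem_singleton, not_or] at hy1T hy2T
    have key : ∀ y', X.τ y' ≠ y' → y' ≠ y → y' ≠ X.τ y →
        (g y = y ∨ g y = X.τ y ∨ g y = y' ∨ g y = X.τ y') := by
      intro y' hy' h1 h2
      have hcomm := hc y y' hy hy'
      have h2' : y ≠ X.τ y' := by
        intro h
        apply h2
        rw [h, X.invol]
      have hdy : (swap y (X.τ y) * swap y' (X.τ y')) y = X.τ y := by
        rw [Perm.mul_apply, swap_apply_of_ne_of_ne (Ne.symm h1) h2', swap_apply_left]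
      have h3 : (swap y (X.τ y) * swap y' (X.τ y')) (g y) ≠ g y := by
        have e : (swap y (X.τ y) * swap y' (X.τ y')) (g y) =
            g ((swap y (X.τ y) * swap y' (X.τ y')) y) := by
          have := congrArg (fun f : Perm α => f y) hcomm
          simp only [Perm.mul_apply] at this
          simp only [Perm.mul_apply]
          exact this.symm
        rw [e, hdy]
        exact fun h => hy (g.injective h)
      by_contra hcon
      push_neg at hcon
      obtain ⟨c1, c2, c3, c4⟩ := hcon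
      apply h3
      rw [Perm.mul_apply, swap_apply_of_ne_of_ne c3 c4, swap_apply_of_ne_of_ne c1 c2]
    rcases key y1 hy1 hy1T.1 hy1T.2 with h | h | h | h
    · exact Or.inl h
    · exact Or.inr h
    · rcases key y2 hy2 hy2T.1 hy2T.2.1 with h' | h' | h' | h'
      · exact Or.inl h'
      · exact Or.inr h'
      · exfalso; exact hy2T.2.2.1 (h'.symm.trans h)
      · exfalso
        apply hy2T.2.2.2
        have : X.τ y2 = y1 := h'.symm.trans h
        rw [← this, X.invol]
    · rcases key y2 hy2 hy2T.1 hy2T.2.1 with h' | h' | h' | h'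
      · exact Or.inl h'
      · exact Or.inr h'
      · exfalso; exact hy2T.2.2.2 (h'.symm.trans h)
      · exfalso
        apply hy2T.2.2.1
        have : X.τ y2 = X.τ y1 := h'.symm.trans h
        exact X.τ.injective this

/-- central elements of `Q` lie in `E` -/
theorem central_mem_E (hn : 6 ≤ Fintype.card α) {z : Perm α} (hz : z ∈ X.Q)
    (hc : ∀ q ∈ X.Q, z * q = q * z) : z ∈ X.E :=
  mem_E_of_comm X hn (X.Q_le hz) (fun _ _ hy hy' => hc _ (X.dsw_mem_Q hy hy'))

/-- a nontrivial central element of `Q` acts as the matching on an orbit whose pointwise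
stabilizer in `Q` is trivial -/
theorem central_on_Orb (hn : 6 ≤ Fintype.card α) (x : α)
    (hfixO : ∀ g ∈ X.Q, (∀ z ∈ X.Orb x, g z = z) → g = 1)
    {z : Perm α} (hz : z ∈ X.Q) (hc : ∀ q ∈ X.Q, z * q = q * z) (hz1 : z ≠ 1) :
    ∀ y ∈ X.Orb x, z y = X.τ y := by
  have hE := central_mem_E X hn hz hc
  have hex : ∃ y0 ∈ X.Orb x, z y0 ≠ y0 := by
    by_contra hcon
    push_neg at hcon
    exact hz1 (hfixO z hz hcon)
  obtain ⟨y0, hy0, hzy0⟩ := hex
  have hzy0' : z y0 = X.τ y0 := (hE y0).resolve_left hzy0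
  have hτy0 : X.τ y0 ≠ y0 := fun h => hzy0 (hzy0'.trans h)
  intro y hy
  have hy' : y ∈ X.Orb y0 := X.Orb_trans (X.Orb_symm hy0) hy
  obtain ⟨g, hg, rfl⟩ := hy'
  obtain ⟨s, hs, hsT⟩ := Pron.Rich.exists_nonfixed X.fix1 {y0, X.τ y0} (by
    have := Finset.card_le_two (a := y0) (b := X.τ y0)
    omega)
  simp only [Finset.mem_insert, Finset.mem_singleton, not_or] at hsT
  obtain ⟨q, hq, hqa⟩ := X.exists_even_agree hg hs
  have h1 : y0 ≠ s := Ne.symm hsT.1
  have h2 : y0 ≠ X.τ s := by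
    intro h
    apply hsT.2
    rw [h, X.invol]
  have e1 : q y0 = g y0 := hqa y0 h1 h2
  have e2 : z (q y0) = q (z y0) := by
    have := congrArg (fun f : Perm α => f y0) (hc q hq)
    simpa only [Perm.mul_apply] using this
  rw [← e1, e2, hzy0', X.comm_tau (X.Q_le hq)]

theorem center_le_two (hn : 6 ≤ Fintype.card α) (x : α)
    (hfixO : ∀ g ∈ X.Q, (∀ z ∈ X.Orb x, g z = z) → g = 1)
    {z1 z2 : Perm α} (h1 : z1 ∈ X.Q) (h2 : z2 ∈ X.Q) (c1 : ∀ q ∈ X.Q, z1 * q = q * z1)
    (c2 : ∀ q ∈ X.Q, z2 * q = q * z2) (n1 : z1 ≠ 1) (n2 : z2 ≠ 1) : z1 = z2 := by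
  have a1 := central_on_Orb X hn x hfixO h1 c1 n1
  have a2 := central_on_Orb X hn x hfixO h2 c2 n2
  have h3 : z1⁻¹ * z2 = 1 := by
    apply hfixO _ (X.Q.mul_mem (X.Q.inv_mem h1) h2)
    intro y hy
    rw [Perm.mul_apply, a2 y hy, ← a1 y hy, Pron.Rich.inv_app]
  exact inv_mul_eq_one.mp h3

/-- no decomposition when some orbit has trivial pointwise stabilizer in `Q` -/
theorem indec_of_big_orbit (hn : 6 ≤ Fintype.card α) (x : α)
    (hfixO : ∀ g ∈ X.Q, (∀ z ∈ X.Orb x, g z = z) → g = 1)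
    {A B : Subgroup (Perm α)} (hD : Cfsg.IsInternalDirectProduct A B X.Q)
    (hA : A ≠ ⊥) (hB : B ≠ ⊥) : False :=
  Basic.indec_of_center hD X.pQ hA hB
    (fun _ h1 _ h2 c1 c2 n1 n2 => center_le_two X hn x hfixO h1 h2 c1 c2 n1 n2)

end Cfsg.Agent.Helper95.Dec.Center
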