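import Mathlib
import Cfsg.Agent.Lib.Helper95.Dec.Center

set_option autoImplicit false
set_option linter.unusedSectionVars false

namespace Cfsg.Agent.Helper95.Dec.CP

open Equiv MulAction Match

universe u
variable {α : Type u} [Fintype α] [DecidableEq α] (X : Setup α)
variable {A B : Subgroup (Perm α)}

theorem app_comm {a b : Perm α} (h : a * b = b * a) (z : α) : a (b z) = b (a z) := by
  have := congrArg (fun f : Perm α => f z) h
  simpa only [Perm.mul_apply] using this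

/-- the components of an element of `E ∩ Q` lie in `E` -/
theorem dec_mem_E (hn : 6 ≤ Fintype.card α) (hD : Cfsg.IsInternalDirectProduct A B X.Q)
    {e a b : Perm α} (he : e ∈ X.E) (ha : a ∈ A) (hb : b ∈ B) (hab : e = a * b) : a ∈ X.E := by
  have hc := Basic.comm hD
  apply Center.mem_E_of_comm X hn (X.Q_le (Basic.leA hD ha))
  intro y y' hy hy'
  have hdE := X.dsw_mem_E y y'
  have hdQ := X.dsw_mem_Q hy hy'
  obtain ⟨a', ha', b', hb', hd⟩ := Basic.exists_mul hD hdQ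
  have hcomm : a * b * (a' * b') = a' * b' * (a * b) := by
    rw [← hab, ← hd]; exact X.E_comm he hdE
  have e1 : (a * a') * (b * b') = (a' * a) * (b' * b) := by
    calc (a * a') * (b * b') = a * (a' * b) * b' := by group
      _ = a * (b * a') * b' := by rw [hc a' ha' b hb]
      _ = a * b * (a' * b') := by group
      _ = a' * b' * (a * b) := hcomm
      _ = a' * (b' * a) * b := by group
      _ = a' * (a * b') * b := by rw [hc a ha b' hb']
      _ = (a' * a) * (b' * b) := by group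
  obtain ⟨e2, -⟩ := Basic.unique_dec hD (A.mul_mem ha ha') (A.mul_mem ha' ha)
    (B.mul_mem hb hb') (B.mul_mem hb' hb) e1
  rw [hd]
  calc a * (a' * b') = (a * a') * b' := by group
    _ = (a' * a) * b' := by rw [e2]
    _ = a' * (a * b') := by group
    _ = a' * (b' * a) := by rw [hc a ha b' hb']
    _ = a' * b' * a := by group

theorem dec_mem_E' (hn : 6 ≤ Fintype.card α) (hD : Cfsg.IsInternalDirectProduct A B X.Q)
    {e a b : Perm α} (he : e ∈ X.E) (ha : a ∈ A) (hb : b ∈ B) (hab : e = a * b) : b ∈ X.E :=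
  dec_mem_E X hn (Basic.symm hD) he hb ha (by rw [hab, Basic.comm hD a ha b hb])

/-- `e` acts on the orbit of `x` as the identity or as the matching -/
def LC (e : Perm α) (x : α) : Prop :=
  (∀ y ∈ X.Orb x, e y = y) ∨ (∀ y ∈ X.Orb x, e y = X.τ y)

theorem LC_congr {e : Perm α} {x y : α} (hy : y ∈ X.Orb x) : LC X e y ↔ LC X e x := by
  unfold LC; rw [X.Orb_eq hy]

theorem LC_of_inv {e : Perm α} (he : e ∈ X.E) (x : α)
    (hinv : ∀ g ∈ X.S, ∀ y ∈ X.Orb x, e y ≠ y → e (g y) ≠ g y) : LC X e x := by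
  by_cases h : ∃ y0 ∈ X.Orb x, e y0 ≠ y0
  · obtain ⟨y0, hy0, hey0⟩ := h
    right
    intro y hy
    have hy' : y ∈ X.Orb y0 := X.Orb_trans (X.Orb_symm hy0) hy
    obtain ⟨g, hg, rfl⟩ := hy'
    exact (he (g y0)).resolve_left (hinv g hg y0 hy0 hey0)
  · push_neg at h
    exact Or.inl h

theorem LC_of_fixed {e : Perm α} (he : e ∈ X.E) {w : α} (hw : X.τ w = w) : LC X e w := by
  left
  intro y hy
  rw [X.Orb_of_fixed hw hy]
  exact X.fix_of_tau (X.E_le he) hw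

theorem W_of_PP (hD : Cfsg.IsInternalDirectProduct A B X.Q) (x : α) {s : α} (hs : X.τ s ≠ s)
    (hsx : s ∉ X.Orb x) (hPP : ∀ b ∈ B, ∀ y ∈ X.Orb x, b y = y ∨ b y = X.τ y) :
    ∀ f ∈ X.E, f ∈ B → LC X f x := by
  intro f hfE hfB
  have hc := Basic.comm hD
  apply LC_of_inv X hfE
  intro g hg y hy hfy
  obtain ⟨q, hq, hqa⟩ := X.exists_even_on_Orb hg hs hsx
  rw [← hqa y hy]
  obtain ⟨a', ha', b', hb', rfl⟩ := Basic.exists_mul hD hq
  have hfy' : f y = X.τ y := (hfE y).resolve_left hfy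
  have hτy : X.τ y ≠ y := fun h => hfy (hfy'.trans h)
  have h1 : f (b' y) ≠ b' y := by
    rcases hPP b' hb' y hy with h | h
    · rw [h]; exact hfy
    · rw [h, X.E_tau hfE hfy']; exact Ne.symm hτy
  show f (a' (b' y)) ≠ a' (b' y)
  rw [← app_comm (hc a' ha' f hfB)]
  exact fun h => h1 (a'.injective h)

theorem move_in (hD : Cfsg.IsInternalDirectProduct A B X.Q) (x : α) {s : α} (hs : X.τ s ≠ s)
    (hsx : s ∉ X.Orb x) {a : Perm α} (ha : a ∈ A) (hax1 : a x ≠ x) (hax2 : a x ≠ X.τ x)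
    {b : Perm α} (hb : b ∈ B) :
    b x = x ∨ b x = X.τ x ∨ b x = a x ∨ b x = X.τ (a x) := by
  have hc := Basic.comm hD
  have haS : a ∈ X.S := X.Q_le (Basic.leA hD ha)
  have hbS : b ∈ X.S := X.Q_le (Basic.leB hD hb)
  have hx : X.τ x ≠ x := fun h => hax1 (X.fix_of_tau haS h)
  by_contra hcon
  push_neg at hcon
  obtain ⟨c1, c2, c3, c4⟩ := hcon
  obtain ⟨t, ht⟩ : ∃ t, t = swap x (X.τ x) := ⟨_, rfl⟩
  obtain ⟨σ, hσ⟩ : ∃ σ, σ = swap s (X.τ s) := ⟨_, rfl⟩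
  have huQ : t * σ ∈ X.Q := by rw [ht, hσ]; exact X.dsw_mem_Q hx hs
  have hd : (t * σ) * a * (t * σ)⁻¹ * a⁻¹ ∈ A :=
    A.mul_mem (Basic.conj_mem hD huQ ha) (A.inv_mem ha)
  have hσz : ∀ z ∈ X.Orb x, σ z = z := fun z hz => by
    rw [hσ]
    exact swap_apply_of_ne_of_ne (X.ne_of_not_mem hsx hz).1 (X.ne_of_not_mem hsx hz).2
  have htS : t ∈ X.S := by rw [ht]; exact X.swap_mem x
  have hu1 : ∀ z ∈ X.Orb x, (t * σ) z = t z := by
    intro z hz; rw [Perm.mul_apply, hσz z hz]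
  have hu2 : ∀ z ∈ X.Orb x, (t * σ)⁻¹ z = t z := by
    intro z hz
    rw [Perm.inv_eq_iff_eq, hu1 _ (X.Orb_apply htS hz), ht, swap_apply_self]
  have hdz : ∀ z ∈ X.Orb x, ((t * σ) * a * (t * σ)⁻¹ * a⁻¹) z = t (a (t (a⁻¹ z))) := by
    intro z hz
    have h1 : a⁻¹ z ∈ X.Orb x := X.Orb_apply (X.S.inv_mem haS) hz
    have h2 : t (a⁻¹ z) ∈ X.Orb x := X.Orb_apply htS h1
    have h3 : a (t (a⁻¹ z)) ∈ X.Orb x := X.Orb_apply haS h2
    have e : ((t * σ) * a * (t * σ)⁻¹ * a⁻¹) z = (t * σ) (a ((t * σ)⁻¹ (a⁻¹ z))) := rfl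
    rw [e, hu2 _ h1, hu1 _ h3]
  have hxO := X.mem_Orb_self x
  have hbxO : b x ∈ X.Orb x := X.Orb_apply hbS hxO
  have e1 : a⁻¹ x ≠ x := by
    intro h
    have := congrArg a h
    rw [Pron.Rich.app_inv] at this
    exact hax1 this.symm
  have e2 : a⁻¹ x ≠ X.τ x := by
    intro h
    have := congrArg a h
    rw [Pron.Rich.app_inv, X.comm_tau haS] at this
    have h' := congrArg X.τ this
    rw [X.invol] at h'
    exact hax2 h'.symm
  have hdx : ((t * σ) * a * (t * σ)⁻¹ * a⁻¹) x = X.τ x := by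
    rw [hdz x hxO, ht, swap_apply_of_ne_of_ne e1 e2, Pron.Rich.app_inv, swap_apply_left]
  have e3 : a⁻¹ (b x) ≠ x := by
    intro h
    have := congrArg a h
    rw [Pron.Rich.app_inv] at this
    exact c3 this
  have e4 : a⁻¹ (b x) ≠ X.τ x := by
    intro h
    have := congrArg a h
    rw [Pron.Rich.app_inv, X.comm_tau haS] at this
    exact c4 this
  have hdbx : ((t * σ) * a * (t * σ)⁻¹ * a⁻¹) (b x) = b x := by
    rw [hdz _ hbxO, ht, swap_apply_of_ne_of_ne e3 e4, Pron.Rich.app_inv,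
      swap_apply_of_ne_of_ne c1 c2]
  have hcomm := app_comm (hc _ hd b hb) x
  rw [hdbx, hdx, X.comm_tau hbS] at hcomm
  exact X.tau_apply_ne hbS hx hcomm.symm

theorem transport_move (hD : Cfsg.IsInternalDirectProduct A B X.Q) (x : α) {s : α}
    (hs : X.τ s ≠ s) (hsx : s ∉ X.Orb x) {a0 : Perm α} (ha0 : a0 ∈ A) {y : α}
    (hy : y ∈ X.Orb x) (h1 : a0 y ≠ y) (h2 : a0 y ≠ X.τ y) :
    ∃ a ∈ A, a x ≠ x ∧ a x ≠ X.τ x := by
  obtain ⟨g, hg, rfl⟩ := hy
  obtain ⟨q, hq, hqa⟩ := X.exists_even_on_Orb hg hs hsx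
  have hqx : q x = g x := hqa x (X.mem_Orb_self x)
  have hqi : q⁻¹ ∈ X.Q := X.Q.inv_mem hq
  have hmem := Basic.conj_mem hD hqi ha0
  rw [inv_inv] at hmem
  refine ⟨q⁻¹ * a0 * q, hmem, ?_, ?_⟩
  · intro h
    apply h1
    have h' : q⁻¹ (a0 (q x)) = x := h
    rw [Perm.inv_eq_iff_eq] at h'
    rw [← hqx]; exact h'
  · intro h
    apply h2
    have h' : q⁻¹ (a0 (q x)) = X.τ x := h
    rw [Perm.inv_eq_iff_eq, X.comm_tau (X.Q_le hq)] at h'
    rw [← hqx]; exact h'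

theorem W_of_moves (hD : Cfsg.IsInternalDirectProduct A B X.Q) (x : α) {s : α} (hs : X.τ s ≠ s)
    (hsx : s ∉ X.Orb x) {a b : Perm α} (ha : a ∈ A) (hb : b ∈ B)
    (hax1 : a x ≠ x) (hax2 : a x ≠ X.τ x) (hbx1 : b x ≠ x) (hbx2 : b x ≠ X.τ x) :
    ∀ e ∈ X.E, e ∈ A → LC X e x := by
  have hc := Basic.comm hD
  have hbS : b ∈ X.S := X.Q_le (Basic.leB hD hb)
  have mB : ∀ b' ∈ B, b' x = x ∨ b' x = X.τ x ∨ b' x = a x ∨ b' x = X.τ (a x) :=
    fun b' hb' => move_in X hD x hs hsx ha hax1 hax2 hb'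
  have mA : ∀ a' ∈ A, a' x = x ∨ a' x = X.τ x ∨ a' x = b x ∨ a' x = X.τ (b x) :=
    fun a' ha' => move_in X (Basic.symm hD) x hs hsx hb hbx1 hbx2 ha'
  have hDτ : ∀ z, (z = x ∨ z = X.τ x ∨ z = b x ∨ z = X.τ (b x)) →
      (X.τ z = x ∨ X.τ z = X.τ x ∨ X.τ z = b x ∨ X.τ z = X.τ (b x)) := by
    rintro z (h | h | h | h)
    · right; left; rw [h]
    · left; rw [h, X.invol]
    · right; right; right; rw [h]
    · right; right; left; rw [h, X.invol]
  have hB0 : ∀ b' ∈ B, (b' x = x ∨ b' x = X.τ x ∨ b' x = b x ∨ b' x = X.τ (b x)) := by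
    intro b' hb'
    rcases mB b' hb' with h | h | h | h
    · exact Or.inl h
    · exact Or.inr (Or.inl h)
    · rw [h]; exact mA a ha
    · rw [h]; exact hDτ _ (mA a ha)
  have hBD : ∀ b' ∈ B, ∀ z, (z = x ∨ z = X.τ x ∨ z = b x ∨ z = X.τ (b x)) →
      (b' z = x ∨ b' z = X.τ x ∨ b' z = b x ∨ b' z = X.τ (b x)) := by
    intro b' hb' z hz
    have hb'S : b' ∈ X.S := X.Q_le (Basic.leB hD hb')
    rcases hz with h | h | h | h
    · rw [h]; exact hB0 b' hb'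
    · rw [h, X.comm_tau hb'S]; exact hDτ _ (hB0 b' hb')
    · rw [h]; exact hB0 (b' * b) (B.mul_mem hb' hb)
    · rw [h, X.comm_tau hb'S]; exact hDτ _ (hB0 (b' * b) (B.mul_mem hb' hb))
  have hOD : ∀ y ∈ X.Orb x, (y = x ∨ y = X.τ x ∨ y = b x ∨ y = X.τ (b x)) := by
    rintro _ ⟨g, hg, rfl⟩
    obtain ⟨q, hq, hqa⟩ := X.exists_even_on_Orb hg hs hsx
    rw [← hqa x (X.mem_Orb_self x)]
    obtain ⟨a', ha', b', hb', rfl⟩ := Basic.exists_mul hD hq
    simp only [Perm.mul_apply]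
    rw [app_comm (hc a' ha' b' hb')]
    exact hBD b' hb' _ (mA a' ha')
  intro e heE heA
  have heb : ∀ z, e (b z) = b (e z) := app_comm (hc e heA b hb)
  rcases heE x with h | h
  · left
    intro y hy
    have h1 : e (X.τ x) = X.τ x := X.E_fix heE h
    have h2 : e (b x) = b x := by rw [heb, h]
    have h3 : e (X.τ (b x)) = X.τ (b x) := X.E_fix heE h2
    rcases hOD y hy with h' | h' | h' | h' <;> rw [h'] <;> assumption
  · right
    intro y hy
    have h1 : e (X.τ x) = X.τ (X.τ x) := by rw [X.E_tau heE h, X.invol]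
    have h2 : e (b x) = X.τ (b x) := by rw [heb, h, X.comm_tau hbS]
    have h3 : e (X.τ (b x)) = X.τ (X.τ (b x)) := by rw [X.E_tau heE h2, X.invol]
    rcases hOD y hy with h' | h' | h' | h' <;> rw [h'] <;> assumption

/-- on each orbit (with a transposition outside it) one of the two factors is locally central,
at least for its elements in `E` -/
theorem weakCP (hD : Cfsg.IsInternalDirectProduct A B X.Q) (x : α) {s : α} (hs : X.τ s ≠ s)
    (hsx : s ∉ X.Orb x) :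
    (∀ e ∈ X.E, e ∈ A → LC X e x) ∨ (∀ e ∈ X.E, e ∈ B → LC X e x) := by
  by_cases hPB : ∀ b ∈ B, ∀ y ∈ X.Orb x, b y = y ∨ b y = X.τ y
  · right; exact W_of_PP X hD x hs hsx hPB
  by_cases hPA : ∀ a ∈ A, ∀ y ∈ X.Orb x, a y = y ∨ a y = X.τ y
  · left; exact W_of_PP X (Basic.symm hD) x hs hsx hPA
  left
  push_neg at hPB hPA
  obtain ⟨b0, hb0, yB, hyB, hb1, hb2⟩ := hPB
  obtain ⟨a0, ha0, yA, hyA, ha1, ha2⟩ := hPA
  obtain ⟨b, hb, hbx1, hbx2⟩ := transport_move X (Basic.symm hD) x hs hsx hb0 hyB hb1 hb2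
  obtain ⟨a, ha, hax1, hax2⟩ := transport_move X hD x hs hsx ha0 hyA ha1 ha2
  exact W_of_moves X hD x hs hsx ha hb hax1 hax2 hbx1 hbx2

end Cfsg.Agent.Helper95.Dec.CP
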