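import Mathlib

set_option autoImplicit false

namespace Cfsg.Agent.Helper95.Dec.Choose

theorem even_choose_of_mod4 {n u : ℕ} (hn : n % 4 = 0 ∨ n % 4 = 1) (hu : u % 4 = 2 ∨ u % 4 = 3) :
    2 ∣ n.choose u := by
  haveI : Fact (Nat.Prime 2) := ⟨Nat.prime_two⟩
  have h1 := Choose.choose_modEq_choose_mod_mul_choose_div_nat (n := n) (k := u) (p := 2)
  have h2 := Choose.choose_modEq_choose_mod_mul_choose_div_nat (n := n / 2) (k := u / 2) (p := 2)
  have e1 : n / 2 % 2 = 0 := by omega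
  have e2 : u / 2 % 2 = 1 := by omega
  have e3 : Nat.choose 0 1 = 0 := by decide
  rw [e1, e2, e3, zero_mul] at h2
  have h4 : n.choose u ≡ 0 [MOD 2] := by
    calc n.choose u ≡ (n % 2).choose (u % 2) * (n / 2).choose (u / 2) [MOD 2] := h1
      _ ≡ (n % 2).choose (u % 2) * 0 [MOD 2] := Nat.ModEq.mul_left _ h2
      _ = 0 := mul_zero _
  exact (Nat.modEq_zero_iff_dvd).mp h4

theorem odd_choose_two {n : ℕ} (hn : n % 4 = 2 ∨ n % 4 = 3) : ¬ 2 ∣ n.choose 2 := by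
  haveI : Fact (Nat.Prime 2) := ⟨Nat.prime_two⟩
  have h1 := Choose.choose_modEq_choose_mod_mul_choose_div_nat (n := n) (k := 2) (p := 2)
  have e : (2 : ℕ) % 2 = 0 := rfl
  have e' : (2 : ℕ) / 2 = 1 := rfl
  rw [e, e', Nat.choose_zero_right, Nat.choose_one_right, one_mul] at h1
  intro hd
  have h2 : n.choose 2 % 2 = 0 := Nat.mod_eq_zero_of_dvd hd
  have h3 : n.choose 2 % 2 = (n / 2) % 2 := h1
  omega

theorem even_choose_pow_add {r j c : ℕ} (hj : 2 ≤ j) (hjr : j < r) (hc : c < 4) :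
    2 ∣ (2 ^ r + c).choose (2 ^ j) := by
  rw [Nat.add_choose_eq]
  apply Finset.dvd_sum
  rintro ⟨i1, i2⟩ hi
  rw [Finset.HasAntidiagonal.mem_antidiagonal] at hi
  simp only at hi ⊢
  by_cases h : i2 ≤ c
  · have h4 : 4 ≤ 2 ^ j := by
      calc 4 = 2 ^ 2 := by norm_num
        _ ≤ 2 ^ j := Nat.pow_le_pow_right (by norm_num) hj
    have hlt : 2 ^ j < 2 ^ r := Nat.pow_lt_pow_right (by norm_num) hjr
    have h1 : i1 ≠ 0 := by omega
    have h2 : i1 ≠ 2 ^ r := by omega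
    exact Dvd.dvd.mul_right (Nat.prime_two.dvd_choose_pow h1 h2) _
  · rw [Nat.choose_eq_zero_of_lt (by omega : c < i2), mul_zero]
    exact dvd_zero _

end Cfsg.Agent.Helper95.Dec.Choose
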