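import Mathlib
import Cfsg.Agent.Lib.Helper95.Dec.CP
import Cfsg.Agent.Lib.Helper95.Dec.Choose

set_option autoImplicit false
set_option linter.unusedSectionVars false

namespace Cfsg.Agent.Helper95.Dec.Ends

open Equiv MulAction Match CP

universe u
variable {α : Type u} [Fintype α] [DecidableEq α] (X : Setup α)
variable {A B : Subgroup (Perm α)}

/-- an element of `E` which is locally central everywhere is even -/
theorem sign_of_LC (hmod : Fintype.card α % 4 = 0 ∨ Fintype.card α % 4 = 1) {c : Perm α}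
    (hc : c ∈ X.E) (hLC : ∀ y, LC X c y) : Perm.sign c = 1 := by
  haveI : Fact (Nat.Prime 2) := ⟨Nat.prime_two⟩
  have hinv : ∀ g ∈ X.S, ∀ z ∈ ((c.support : Finset α) : Set α),
      g z ∈ ((c.support : Finset α) : Set α) := by
    intro g hg z hz
    rw [Finset.mem_coe, Perm.mem_support] at hz ⊢
    rcases hLC z with h | h
    · exact absurd (h z (X.mem_Orb_self z)) hz
    · have hτz : X.τ z ≠ z := fun h' => hz ((h z (X.mem_Orb_self z)).trans h')
      rw [h (g z) (X.Orb_apply hg (X.mem_Orb_self z))]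
      exact X.tau_apply_ne hg hτz
  have hodd := X.odd_choose_of_invariant _ hinv
  rw [Set.ncard_coe_finset] at hodd
  have hcard : c.support.card % 4 = 0 ∨ c.support.card % 4 = 1 := by
    by_contra hcon
    apply hodd
    apply Choose.even_choose_of_mod4 hmod
    omega
  by_cases h1 : c = 1
  · rw [h1, Perm.sign_one]
  have hsq : c ^ 2 = 1 := by
    ext y
    rw [pow_two, Perm.mul_apply, X.E_sq hc, Perm.one_apply]
  have ho : orderOf c = 2 := orderOf_eq_prime hsq h1
  obtain ⟨k, hk⟩ := Perm.cycleType_prime_order (σ := c) (by rw [ho]; exact Nat.prime_two)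
  rw [ho] at hk
  have hsum := Perm.sum_cycleType c
  rw [hk, Multiset.sum_replicate, smul_eq_mul] at hsum
  rw [Perm.sign_of_cycleType, hk, Multiset.sum_replicate, Multiset.card_replicate, smul_eq_mul]
  apply Even.neg_one_pow
  rw [Nat.even_iff]
  omega

/-- first ending: orbits of both types -/
theorem end_one (hn : 6 ≤ Fintype.card α)
    (hmod : Fintype.card α % 4 = 0 ∨ Fintype.card α % 4 = 1)
    (hD : Cfsg.IsInternalDirectProduct A B X.Q)
    (hW : ∀ y, (∀ e ∈ X.E, e ∈ A → LC X e y) ∨ (∀ e ∈ X.E, e ∈ B → LC X e y))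
    {x x' : α} (hx : X.τ x ≠ x) (hx' : X.τ x' ≠ x') (hxx' : x' ∉ X.Orb x)
    (hB : ∀ e ∈ X.E, e ∈ B → LC X e x) (hA : ∀ e ∈ X.E, e ∈ A → LC X e x') : False := by
  obtain ⟨t, ht⟩ : ∃ t, t = swap x (X.τ x) := ⟨_, rfl⟩
  obtain ⟨σ, hσ⟩ : ∃ σ, σ = swap x' (X.τ x') := ⟨_, rfl⟩
  have hdQ : t * σ ∈ X.Q := by rw [ht, hσ]; exact X.dsw_mem_Q hx hx'
  have hdE : t * σ ∈ X.E := by rw [ht, hσ]; exact X.dsw_mem_E x x'
  have htE : t ∈ X.E := by rw [ht]; exact X.swap_mem_E x
  obtain ⟨a, ha, b, hb, hab⟩ := Basic.exists_mul hD hdQ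
  have haE := dec_mem_E X hn hD hdE ha hb hab
  have hbE := dec_mem_E' X hn hD hdE ha hb hab
  have hbiE : b⁻¹ ∈ X.E := X.E.inv_mem hbE
  have hbiB : b⁻¹ ∈ B := B.inv_mem hb
  have htt : t * t = 1 := by rw [ht, swap_mul_self]
  have hc2 : t * a = σ * b⁻¹ := by
    calc t * a = t * (a * b) * b⁻¹ := by group
      _ = t * (t * σ) * b⁻¹ := by rw [hab]
      _ = (t * t) * σ * b⁻¹ := by group
      _ = σ * b⁻¹ := by rw [htt, one_mul]
  have hcE : t * a ∈ X.E := X.E.mul_mem htE haE
  have hx'x : x ∉ X.Orb x' := fun h => hxx' (X.Orb_symm h)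
  have hLC : ∀ y, LC X (t * a) y := by
    intro y
    by_cases hy : y ∈ X.Orb x
    · rw [LC_congr X hy]
      have e : ∀ z ∈ X.Orb x, (t * a) z = b⁻¹ z := by
        intro z hz
        rw [hc2, Perm.mul_apply, hσ]
        have hz' : b⁻¹ z ∈ X.Orb x := X.Orb_apply (X.E_le hbiE) hz
        exact swap_apply_of_ne_of_ne (X.ne_of_not_mem hxx' hz').1 (X.ne_of_not_mem hxx' hz').2
      rcases hB _ hbiE hbiB with h | h
      · left; intro z hz; rw [e z hz, h z hz]
      · right; intro z hz; rw [e z hz, h z hz]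
    · by_cases hy' : y ∈ X.Orb x'
      · rw [LC_congr X hy']
        have e : ∀ z ∈ X.Orb x', (t * a) z = a z := by
          intro z hz
          rw [Perm.mul_apply, ht]
          have hz' : a z ∈ X.Orb x' := X.Orb_apply (X.E_le haE) hz
          exact swap_apply_of_ne_of_ne (X.ne_of_not_mem hx'x hz').1 (X.ne_of_not_mem hx'x hz').2
        rcases hA _ haE ha with h | h
        · left; intro z hz; rw [e z hz, h z hz]
        · right; intro z hz; rw [e z hz, h z hz]
      · have hxy : x ∉ X.Orb y := fun h => hy (X.Orb_symm h)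
        have hx'y : x' ∉ X.Orb y := fun h => hy' (X.Orb_symm h)
        have e1 : ∀ z ∈ X.Orb y, (t * a) z = a z := by
          intro z hz
          rw [Perm.mul_apply, ht]
          have hz' : a z ∈ X.Orb y := X.Orb_apply (X.E_le haE) hz
          exact swap_apply_of_ne_of_ne (X.ne_of_not_mem hxy hz').1 (X.ne_of_not_mem hxy hz').2
        have e2 : ∀ z ∈ X.Orb y, (t * a) z = b⁻¹ z := by
          intro z hz
          rw [hc2, Perm.mul_apply, hσ]
          have hz' : b⁻¹ z ∈ X.Orb y := X.Orb_apply (X.E_le hbiE) hz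
          exact swap_apply_of_ne_of_ne (X.ne_of_not_mem hx'y hz').1 (X.ne_of_not_mem hx'y hz').2
        rcases hW y with hWA | hWB
        · rcases hWA _ haE ha with h | h
          · left; intro z hz; rw [e1 z hz, h z hz]
          · right; intro z hz; rw [e1 z hz, h z hz]
        · rcases hWB _ hbiE hbiB with h | h
          · left; intro z hz; rw [e2 z hz, h z hz]
          · right; intro z hz; rw [e2 z hz, h z hz]
  have hs := sign_of_LC X hmod hcE hLC
  rw [Perm.sign_mul, ht, Perm.sign_swap (Ne.symm hx), X.sign_of_mem_Q (Basic.leA hD ha)] at hs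
  exact absurd hs (by decide)

/-- products of two transpositions of one orbit lie in `A` when `B` is locally central there -/
theorem pair_mem (hn : 6 ≤ Fintype.card α) (hD : Cfsg.IsInternalDirectProduct A B X.Q) (x : α)
    {s : α} (hs : X.τ s ≠ s) (hsx : s ∉ X.Orb x) (hB : ∀ e ∈ X.E, e ∈ B → LC X e x) {y y' : α}
    (hy : y ∈ X.Orb x) (hy' : y' ∈ X.Orb x) (hyτ : X.τ y ≠ y) (hne1 : y' ≠ y)
    (hne2 : y' ≠ X.τ y) : swap y (X.τ y) * swap y' (X.τ y') ∈ A := by
  have hc := Basic.comm hD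
  obtain ⟨t, ht⟩ : ∃ t, t = swap y (X.τ y) := ⟨_, rfl⟩
  obtain ⟨t', ht'⟩ : ∃ t', t' = swap y' (X.τ y') := ⟨_, rfl⟩
  obtain ⟨σ, hσ⟩ : ∃ σ, σ = swap s (X.τ s) := ⟨_, rfl⟩
  have hdQ : t * σ ∈ X.Q := by rw [ht, hσ]; exact X.dsw_mem_Q hyτ hs
  have hdE : t * σ ∈ X.E := by rw [ht, hσ]; exact X.dsw_mem_E y s
  have hσE : σ ∈ X.E := by rw [hσ]; exact X.swap_mem_E s
  have ht'E : t' ∈ X.E := by rw [ht']; exact X.swap_mem_E y'
  have hσS : σ ∈ X.S := X.E_le hσE
  obtain ⟨a, ha, b1, hb1, hab⟩ := Basic.exists_mul hD hdQ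
  have hb1E := dec_mem_E' X hn hD hdE ha hb1 hab
  have hy'y : y' ∈ X.Orb y := X.Orb_trans (X.Orb_symm hy) hy'
  obtain ⟨g, hg, hgy⟩ := hy'y
  obtain ⟨h, hh, hh1, hh2⟩ := X.restrict_mem (X.Orb x) (fun g hg z hz => X.Orb_apply hg hz) hg
  have hσz : ∀ z ∈ X.Orb x, σ z = z := fun z hz => by
    rw [hσ]
    exact swap_apply_of_ne_of_ne (X.ne_of_not_mem hsx hz).1 (X.ne_of_not_mem hsx hz).2
  obtain ⟨κ, hκ, hqQ⟩ : ∃ κ, (κ = 1 ∨ κ = σ) ∧ h * κ ∈ X.Q := by
    rcases Int.units_eq_one_or (Perm.sign h) with e | e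
    · exact ⟨1, Or.inl rfl, by rw [mul_one]; exact X.mem_Q hh e⟩
    · refine ⟨σ, Or.inr rfl, X.mem_Q (X.S.mul_mem hh hσS) ?_⟩
      rw [Perm.sign_mul, e, hσ, Perm.sign_swap (Ne.symm hs)]; rfl
  have hκz : ∀ z ∈ X.Orb x, κ z = z := by
    intro z hz
    rcases hκ with e | e
    · rw [e, Perm.one_apply]
    · rw [e]; exact hσz z hz
  have hκσ : κ * σ = σ * κ := by
    rcases hκ with e | e
    · rw [e, one_mul, mul_one]
    · rw [e]
  have hκb : κ * b1 = b1 * κ := by
    rcases hκ with e | e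
    · rw [e, one_mul, mul_one]
    · rw [e]; exact X.E_comm hσE hb1E
  have hhσ : h * σ = σ * h := Perm.ext (fun z => by
    show h (σ z) = σ (h z)
    by_cases hz : z ∈ X.Orb x
    · rw [hσz z hz, hσz _ (X.Orb_apply hh hz)]
    · rw [hh2 z hz, hh2 _ (X.Orb_compl hσS hz)])
  have hhb : h * b1 = b1 * h := Perm.ext (fun z => by
    show h (b1 z) = b1 (h z)
    by_cases hz : z ∈ X.Orb x
    · rcases hB b1 hb1E hb1 with e | e
      · rw [e z hz, e _ (X.Orb_apply hh hz)]
      · rw [e z hz, e _ (X.Orb_apply hh hz), X.comm_tau hh]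
    · rw [hh2 z hz, hh2 _ (X.Orb_compl (X.E_le hb1E) hz)])
  have hqσ : (h * κ) * σ = σ * (h * κ) := by
    calc (h * κ) * σ = h * (κ * σ) := by group
      _ = h * (σ * κ) := by rw [hκσ]
      _ = (h * σ) * κ := by group
      _ = (σ * h) * κ := by rw [hhσ]
      _ = σ * (h * κ) := by group
  have hqb : (h * κ) * b1 = b1 * (h * κ) := by
    calc (h * κ) * b1 = h * (κ * b1) := by group
      _ = h * (b1 * κ) := by rw [hκb]
      _ = (h * b1) * κ := by group
      _ = (b1 * h) * κ := by rw [hhb]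
      _ = b1 * (h * κ) := by group
  obtain ⟨q, hq⟩ : ∃ q, q = h * κ := ⟨_, rfl⟩
  rw [← hq] at hqQ hqσ hqb
  have hqS : q ∈ X.S := X.Q_le hqQ
  have hqy : q y = y' := by
    rw [hq, Perm.mul_apply, hκz y hy, hh1 y hy, hgy]
  have hqt : q * t * q⁻¹ = t' := by
    rw [ht, ← swap_apply_apply, hqy, X.comm_tau hqS, hqy, ht']
  have hqσ' : q * σ * q⁻¹ = σ := by rw [hqσ]; group
  have hqb' : q * b1 * q⁻¹ = b1 := by rw [hqb]; group
  have hqaq : q * a * q⁻¹ ∈ A := Basic.conj_mem hD hqQ ha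
  have f1 : t' * σ = (q * a * q⁻¹) * b1 := by
    calc t' * σ = (q * t * q⁻¹) * (q * σ * q⁻¹) := by rw [hqt, hqσ']
      _ = q * (t * σ) * q⁻¹ := by group
      _ = q * (a * b1) * q⁻¹ := by rw [hab]
      _ = (q * a * q⁻¹) * (q * b1 * q⁻¹) := by group
      _ = (q * a * q⁻¹) * b1 := by rw [hqb']
  have hσσ : σ * σ = 1 := by rw [hσ, swap_mul_self]
  have hσt' : σ * t' = t' * σ := X.E_comm hσE ht'E
  have hbb : b1 * b1 = 1 := by
    ext z
    rw [Perm.mul_apply, X.E_sq hb1E, Perm.one_apply]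
  have f2 : t * t' = a * (q * a * q⁻¹) := by
    calc t * t' = t * t' * (σ * σ) := by rw [hσσ, mul_one]
      _ = t * (t' * σ) * σ := by group
      _ = t * (σ * t') * σ := by rw [hσt']
      _ = (t * σ) * (t' * σ) := by group
      _ = (a * b1) * ((q * a * q⁻¹) * b1) := by rw [hab, f1]
      _ = a * (b1 * (q * a * q⁻¹)) * b1 := by group
      _ = a * ((q * a * q⁻¹) * b1) * b1 := by rw [← hc _ hqaq b1 hb1]
      _ = a * (q * a * q⁻¹) * (b1 * b1) := by group
      _ = a * (q * a * q⁻¹) := by rw [hbb, mul_one]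
  rw [← ht, ← ht', f2]
  exact A.mul_mem ha hqaq

/-- even elements of `E` supported on one orbit lie in `A` -/
theorem even_supp_mem (x : α)
    (hK : ∀ y y', y ∈ X.Orb x → y' ∈ X.Orb x → X.τ y ≠ y → y' ≠ y → y' ≠ X.τ y →
      swap y (X.τ y) * swap y' (X.τ y') ∈ A) :
    ∀ k, ∀ e ∈ X.E, (∀ y, e y ≠ y → y ∈ X.Orb x) → Perm.sign e = 1 → e.support.card ≤ k →
      e ∈ A := by
  intro k
  induction k with
  | zero =>
    intro e _ _ _ hk
    have : e = 1 := by
      rw [← Perm.support_eq_empty_iff, ← Finset.card_eq_zero]; omega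
    rw [this]; exact A.one_mem
  | succ k ih =>
    intro e heE hsupp hsign hk
    by_cases h1 : e = 1
    · rw [h1]; exact A.one_mem
    have hex : ∃ y, e y ≠ y := by
      by_contra hcon
      push_neg at hcon
      exact h1 (Perm.ext hcon)
    obtain ⟨y, hey⟩ := hex
    have hyO := hsupp y hey
    have hey' : e y = X.τ y := (heE y).resolve_left hey
    have hτy : X.τ y ≠ y := fun h => hey (hey'.trans h)
    have hne : e * swap y (X.τ y) ≠ 1 := by
      intro h
      have := congrArg Perm.sign h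
      rw [Perm.sign_mul, hsign, Perm.sign_swap (Ne.symm hτy), Perm.sign_one] at this
      exact absurd this (by decide)
    have hex' : ∃ y', (e * swap y (X.τ y)) y' ≠ y' := by
      by_contra hcon
      push_neg at hcon
      exact hne (Perm.ext hcon)
    obtain ⟨y', hy'⟩ := hex'
    have hy'1 : y' ≠ y := by
      intro h
      apply hy'
      rw [h, Perm.mul_apply, swap_apply_left, X.E_tau heE hey']
    have hy'2 : y' ≠ X.τ y := by
      intro h
      apply hy'
      rw [h, Perm.mul_apply, swap_apply_right, hey']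
    have hey2 : e y' ≠ y' := by
      intro h
      apply hy'
      rw [Perm.mul_apply, swap_apply_of_ne_of_ne hy'1 hy'2, h]
    have hy'O := hsupp y' hey2
    have hey2' : e y' = X.τ y' := (heE y').resolve_left hey2
    have hτy' : X.τ y' ≠ y' := fun h => hey2 (hey2'.trans h)
    have hdd := hK y y' hyO hy'O hτy hy'1 hy'2
    obtain ⟨dd, hdd_def⟩ : ∃ dd, dd = swap y (X.τ y) * swap y' (X.τ y') := ⟨_, rfl⟩
    rw [← hdd_def] at hdd
    have hddE : dd ∈ X.E := by rw [hdd_def]; exact X.dsw_mem_E y y'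
    have he'E : e * dd ∈ X.E := X.E.mul_mem heE hddE
    have hsub : ∀ z, (e * dd) z ≠ z → e z ≠ z := by
      intro z hz hez
      apply hz
      have n1 : z ≠ y := by
        intro h; rw [h] at hez; exact hey hez
      have n2 : z ≠ X.τ y := by
        intro h; rw [h, X.E_tau heE hey'] at hez; exact hτy hez.symm
      have n3 : z ≠ y' := by
        intro h; rw [h] at hez; exact hey2 hez
      have n4 : z ≠ X.τ y' := by
        intro h; rw [h, X.E_tau heE hey2'] at hez; exact hτy' hez.symm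
      rw [hdd_def, Perm.mul_apply, Perm.mul_apply, swap_apply_of_ne_of_ne n3 n4,
        swap_apply_of_ne_of_ne n1 n2, hez]
    have hy_fix : (e * dd) y = y := by
      have m1 : y ≠ y' := Ne.symm hy'1
      have m2 : y ≠ X.τ y' := by
        intro h; apply hy'2; rw [h, X.invol]
      rw [hdd_def, Perm.mul_apply, Perm.mul_apply, swap_apply_of_ne_of_ne m1 m2, swap_apply_left,
        X.E_tau heE hey']
    have hsubset : (e * dd).support ⊆ e.support := by
      intro z hz
      rw [Perm.mem_support] at hz ⊢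
      exact hsub z hz
    have hlt : (e * dd).support.card < e.support.card := by
      apply Finset.card_lt_card
      exact (Finset.ssubset_iff_of_subset hsubset).mpr
        ⟨y, Perm.mem_support.mpr hey, fun h => (Perm.mem_support.mp h) hy_fix⟩
    have hsign' : Perm.sign (e * dd) = 1 := by
      rw [Perm.sign_mul, hsign, hdd_def, Perm.sign_mul, Perm.sign_swap (Ne.symm hτy),
        Perm.sign_swap (Ne.symm hτy')]
      rfl
    have hmem := ih (e * dd) he'E (fun z hz => hsupp z (hsub z hz)) hsign' (by omega)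
    have : e = (e * dd) * dd⁻¹ := by group
    rw [this]
    exact A.mul_mem hmem (A.inv_mem hdd)

/-- elements of `E` which are locally central everywhere lie in `A` -/
theorem LC_mem (hmod : Fintype.card α % 4 = 0 ∨ Fintype.card α % 4 = 1)
    (hK : ∀ x, X.τ x ≠ x → ∀ y y', y ∈ X.Orb x → y' ∈ X.Orb x → X.τ y ≠ y → y' ≠ y →
      y' ≠ X.τ y → swap y (X.τ y) * swap y' (X.τ y') ∈ A) :
    ∀ k, ∀ f ∈ X.E, (∀ y, LC X f y) → f.support.card ≤ k → f ∈ A := by
  intro k
  induction k with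
  | zero =>
    intro f _ _ hk
    have : f = 1 := by
      rw [← Perm.support_eq_empty_iff, ← Finset.card_eq_zero]; omega
    rw [this]; exact A.one_mem
  | succ k ih =>
    intro f hfE hLC hk
    by_cases h1 : f = 1
    · rw [h1]; exact A.one_mem
    have hex : ∃ x, f x ≠ x := by
      by_contra hcon
      push_neg at hcon
      exact h1 (Perm.ext hcon)
    obtain ⟨x, hfx⟩ := hex
    have hfx' : f x = X.τ x := (hfE x).resolve_left hfx
    have hτx : X.τ x ≠ x := fun h => hfx (hfx'.trans h)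
    have hfO : ∀ y ∈ X.Orb x, f y = X.τ y := by
      rcases hLC x with h | h
      · exact absurd (h x (X.mem_Orb_self x)) hfx
      · exact h
    obtain ⟨z, hzS, hz1, hz2⟩ := X.restrict_mem (X.Orb x)
      (fun g hg w hw => X.Orb_apply hg hw) (X.E_le hfE)
    have hzE : z ∈ X.E := by
      intro y
      by_cases hy : y ∈ X.Orb x
      · right; rw [hz1 y hy, hfO y hy]
      · left; exact hz2 y hy
    have hzLC : ∀ y, LC X z y := by
      intro y
      by_cases hy : y ∈ X.Orb x
      · rw [LC_congr X hy]; right; intro w hw; rw [hz1 w hw, hfO w hw]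
      · left; intro w hw
        apply hz2
        intro hw'
        exact hy (X.Orb_trans hw' (X.Orb_symm hw))
    have hzsign := sign_of_LC X hmod hzE hzLC
    have hzA : z ∈ A := even_supp_mem X x (hK x hτx) _ z hzE (fun y hy => by
      by_contra hyO; exact hy (hz2 y hyO)) hzsign le_rfl
    have hf'E : f * z ∈ X.E := X.E.mul_mem hfE hzE
    have hf'O : ∀ y ∈ X.Orb x, (f * z) y = y := by
      intro y hy
      rw [Perm.mul_apply, hz1 y hy, hfO y hy, hfO _ (X.Orb_tau hy), X.invol]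
    have hf'C : ∀ y, y ∉ X.Orb x → (f * z) y = f y := by
      intro y hy; rw [Perm.mul_apply, hz2 y hy]
    have hf'LC : ∀ y, LC X (f * z) y := by
      intro y
      by_cases hy : y ∈ X.Orb x
      · rw [LC_congr X hy]; left; exact hf'O
      · have hw : ∀ w ∈ X.Orb y, w ∉ X.Orb x :=
          fun w hw hw' => hy (X.Orb_trans hw' (X.Orb_symm hw))
        rcases hLC y with h | h
        · left; intro w hw'; rw [hf'C w (hw w hw'), h w hw']
        · right; intro w hw'; rw [hf'C w (hw w hw'), h w hw']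
    have hsubset : (f * z).support ⊆ f.support := by
      intro w hw
      rw [Perm.mem_support] at hw ⊢
      by_cases hwO : w ∈ X.Orb x
      · exact absurd (hf'O w hwO) hw
      · rwa [hf'C w hwO] at hw
    have hlt : (f * z).support.card < f.support.card := by
      apply Finset.card_lt_card
      exact (Finset.ssubset_iff_of_subset hsubset).mpr
        ⟨x, Perm.mem_support.mpr hfx,
          fun h => (Perm.mem_support.mp h) (hf'O x (X.mem_Orb_self x))⟩
    have hmem := ih (f * z) hf'E hf'LC (by omega)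
    have : f = (f * z) * z⁻¹ := by group
    rw [this]; exact A.mul_mem hmem (A.inv_mem hzA)

/-- second ending: all orbits of the same type -/
theorem end_two (hn : 6 ≤ Fintype.card α)
    (hmod : Fintype.card α % 4 = 0 ∨ Fintype.card α % 4 = 1)
    (hD : Cfsg.IsInternalDirectProduct A B X.Q) (hBne : B ≠ ⊥)
    (hs2 : ∀ x, ∃ s, X.τ s ≠ s ∧ s ∉ X.Orb x)
    (hB : ∀ x, ∀ e ∈ X.E, e ∈ B → LC X e x) : False := by
  haveI : Fact (Nat.Prime 2) := ⟨Nat.prime_two⟩
  obtain ⟨f, hfB, hf1, hfc⟩ := Basic.exists_central B (X.pQ.to_le (Basic.leB hD)) hBne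
  have hfQ := Basic.leB hD hfB
  have hfcQ := Basic.central_of (Basic.symm hD) hfB hfc
  have hfE := Center.central_mem_E X hn hfQ hfcQ
  have hK : ∀ x, X.τ x ≠ x → ∀ y y', y ∈ X.Orb x → y' ∈ X.Orb x → X.τ y ≠ y → y' ≠ y →
      y' ≠ X.τ y → swap y (X.τ y) * swap y' (X.τ y') ∈ A := by
    intro x _ y y' hy hy' hτy h1 h2
    obtain ⟨s, hs, hsx⟩ := hs2 x
    exact pair_mem X hn hD x hs hsx (hB x) hy hy' hτy h1 h2
  have hfA := LC_mem X hmod hK _ f hfE (fun y => hB y f hfE hfB) le_rfl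
  have : f ∈ A ⊓ B := ⟨hfA, hfB⟩
  rw [Basic.inf_bot hD, Subgroup.mem_bot] at this
  exact hf1 this

/-- degrees `≡ 0, 1 (mod 4)`, at least `8`: indecomposable -/
theorem indec01 (hn : 6 ≤ Fintype.card α)
    (hmod : Fintype.card α % 4 = 0 ∨ Fintype.card α % 4 = 1)
    (hD : Cfsg.IsInternalDirectProduct A B X.Q) (hA : A ≠ ⊥) (hB : B ≠ ⊥) : False := by
  obtain ⟨x0, hx0, -⟩ := Pron.Rich.exists_nonfixed X.fix1 ∅ (by rw [Finset.card_empty]; omega)
  by_cases hs1 : ∀ y, X.τ y ≠ y → y ∈ X.Orb x0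
  · refine Center.indec_of_big_orbit X hn x0 ?_ hD hA hB
    intro g hg hfix
    ext y
    by_cases hy : X.τ y = y
    · rw [X.fix_of_tau (X.Q_le hg) hy, Perm.one_apply]
    · rw [hfix y (hs1 y hy), Perm.one_apply]
  · obtain ⟨y1, hy1, hy1O⟩ : ∃ y1, X.τ y1 ≠ y1 ∧ y1 ∉ X.Orb x0 := by
      by_contra hc
      apply hs1
      intro y hy
      by_contra h
      exact hc ⟨y, hy, h⟩
    have hs2 : ∀ x, ∃ s, X.τ s ≠ s ∧ s ∉ X.Orb x := by
      intro x
      by_cases h : y1 ∈ X.Orb x
      · exact ⟨x0, hx0, fun h0 => hy1O (X.Orb_trans (X.Orb_symm h0) h)⟩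
      · exact ⟨y1, hy1, h⟩
    have hW : ∀ y, (∀ e ∈ X.E, e ∈ A → LC X e y) ∨ (∀ e ∈ X.E, e ∈ B → LC X e y) := by
      intro y
      obtain ⟨s, hs, hsy⟩ := hs2 y
      exact weakCP X hD y hs hsy
    by_cases hi : ∃ x x', X.τ x ≠ x ∧ X.τ x' ≠ x' ∧ ¬ (∀ e ∈ X.E, e ∈ A → LC X e x) ∧
        ¬ (∀ e ∈ X.E, e ∈ B → LC X e x')
    · obtain ⟨x, x', hx, hx', hnA, hnB⟩ := hi
      have hBx := (hW x).resolve_left hnA
      have hAx' := (hW x').resolve_right hnB
      have hxx' : x' ∉ X.Orb x := by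
        intro h
        apply hnB
        intro e heE heB
        rw [LC_congr X h]
        exact hBx e heE heB
      exact end_one X hn hmod hD hW hx hx' hxx' hBx hAx'
    · have hi' : ∀ x x', X.τ x ≠ x → X.τ x' ≠ x' → ¬ (∀ e ∈ X.E, e ∈ A → LC X e x) →
          (∀ e ∈ X.E, e ∈ B → LC X e x') := by
        intro x x' hx hx' hnA
        by_contra hnB
        exact hi ⟨x, x', hx, hx', hnA, hnB⟩
      by_cases hall : ∀ x, X.τ x ≠ x → ∀ e ∈ X.E, e ∈ A → LC X e x
      · apply end_two X hn hmod (Basic.symm hD) hA hs2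
        intro x e heE heA
        by_cases hx : X.τ x = x
        · exact LC_of_fixed X heE hx
        · exact hall x hx e heE heA
      · obtain ⟨x, hx, hnA⟩ : ∃ x, X.τ x ≠ x ∧ ¬ (∀ e ∈ X.E, e ∈ A → LC X e x) := by
          by_contra hc
          apply hall
          intro x hx
          by_contra h
          exact hc ⟨x, hx, h⟩
        apply end_two X hn hmod hD hB hs2
        intro x' e heE heB
        by_cases hx' : X.τ x' = x'
        · exact LC_of_fixed X heE hx'
        · exact hi' x x' hx hx' hnA e heE heB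

end Cfsg.Agent.Helper95.Dec.Ends
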