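import Mathlib
import Cfsg.Agent.Lib.Helper95.Dec.Center
import Cfsg.Agent.Lib.Helper95.Dec.Choose

set_option autoImplicit false
set_option linter.unusedSectionVars false

namespace Cfsg.Agent.Helper95.Dec.Odd

open Equiv MulAction Match

universe u
variable {α : Type u} [Fintype α] [DecidableEq α] (X : Setup α)

/-- an invariant pair carrying a transposition, in degrees `≡ 2, 3 (mod 4)` -/
theorem exists_uv (hmod : Fintype.card α % 4 = 2 ∨ Fintype.card α % 4 = 3) :
    ∃ u v : α, u ≠ v ∧ X.τ u = v ∧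
      ∀ g ∈ X.S, (g u = u ∧ g v = v) ∨ (g u = v ∧ g v = u) := by
  obtain ⟨U, hU2, hUinv⟩ := exists_invariant 2 (by omega) (Choose.odd_choose_two hmod) X.P
  obtain ⟨u0, v0, huv, rfl⟩ := Set.ncard_eq_two.mp hU2
  have key : ∀ u v : α, (∀ g ∈ X.S, ∀ z ∈ ({u, v} : Set α), g z ∈ ({u, v} : Set α)) →
      X.τ u ≠ u → X.τ u = v := by
    intro u v hinv hu
    have := hinv _ (X.swap_mem u) u (by simp)
    rw [swap_apply_left, Set.mem_insert_iff, Set.mem_singleton_iff] at this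
    rcases this with h | h
    · exact absurd h hu
    · exact h
  have hτ : X.τ u0 = v0 := by
    by_cases hu : X.τ u0 = u0
    · exfalso
      have hv : X.τ v0 ≠ v0 := fun hv => huv (X.fix1 _ _ hu hv)
      have hinv' : ∀ g ∈ X.S, ∀ z ∈ ({v0, u0} : Set α), g z ∈ ({v0, u0} : Set α) := by
        intro g hg z hz
        rw [Set.pair_comm] at hz ⊢
        exact hUinv g hg z hz
      have h1 := key v0 u0 hinv' hv
      have h2 : X.τ u0 = v0 := by rw [← h1, X.invol]
      exact huv (hu.symm.trans h2)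
    · exact key u0 v0 hUinv hu
  refine ⟨u0, v0, huv, hτ, ?_⟩
  intro g hg
  have h1 := hUinv g hg u0 (by simp)
  rw [Set.mem_insert_iff, Set.mem_singleton_iff] at h1
  have hgv : g v0 = X.τ (g u0) := by rw [← hτ, X.comm_tau hg]
  rcases h1 with h | h
  · left; refine ⟨h, ?_⟩; rw [hgv, h, hτ]
  · right
    refine ⟨h, ?_⟩
    rw [hgv, h, ← hτ, X.invol]

theorem eq_one_of_fix {u v : α} (huv : u ≠ v) {g : Perm α} (hg : g ∈ X.Q)
    (hinv : (g u = u ∧ g v = v) ∨ (g u = v ∧ g v = u))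
    (hfix : ∀ z, z ≠ u → z ≠ v → g z = z) : g = 1 := by
  rcases hinv with ⟨h1, h2⟩ | ⟨h1, h2⟩
  · ext z
    by_cases hzu : z = u
    · rw [hzu, h1, Perm.one_apply]
    by_cases hzv : z = v
    · rw [hzv, h2, Perm.one_apply]
    rw [hfix z hzu hzv, Perm.one_apply]
  · exfalso
    have : g = swap u v := by
      ext z
      by_cases hzu : z = u
      · rw [hzu, h1, swap_apply_left]
      by_cases hzv : z = v
      · rw [hzv, h2, swap_apply_right]
      rw [hfix z hzu hzv, swap_apply_of_ne_of_ne hzu hzv]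
    have hs := X.sign_of_mem_Q hg
    rw [this, Perm.sign_swap huv] at hs
    exact absurd hs (by decide)

/-- pointwise stabilizer of a set -/
def fixG (T : Set α) : Subgroup (Perm α) where
  carrier := {g | ∀ z ∈ T, g z = z}
  one_mem' := fun _ _ => rfl
  mul_mem' := by
    intro a b ha hb z hz
    rw [Perm.mul_apply, hb z hz, ha z hz]
  inv_mem' := by
    intro a ha z hz
    rw [Perm.inv_eq_iff_eq, ha z hz]

theorem mem_fixG {T : Set α} {g : Perm α} : g ∈ fixG T ↔ ∀ z ∈ T, g z = z := Iff.rfl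

theorem card_Orb_ne_zero {w : α} (hw : X.τ w ≠ w) {j : ℕ} (hj : (X.Orb w).ncard = 2 ^ j) :
    j ≠ 0 := by
  intro h0
  rw [h0, pow_zero] at hj
  obtain ⟨a, ha⟩ := Set.ncard_eq_one.mp hj
  have h1 : w ∈ ({a} : Set α) := by rw [← ha]; exact X.mem_Orb_self w
  have h2 : X.τ w ∈ ({a} : Set α) := by rw [← ha]; exact X.Orb_tau (X.mem_Orb_self w)
  rw [Set.mem_singleton_iff] at h1 h2
  exact hw (h2.trans h1.symm)

section uv

variable {u v : α} (huv : u ≠ v) (hτu : X.τ u = v)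
  (hinv : ∀ g ∈ X.S, (g u = u ∧ g v = v) ∨ (g u = v ∧ g v = u))
include huv hτu hinv

theorem not_uv_of_Orb {x : α} (hx1 : x ≠ u) (hx2 : x ≠ v) : ∀ z ∈ X.Orb x, z ≠ u ∧ z ≠ v := by
  rintro _ ⟨g, hg, rfl⟩
  constructor
  · intro h
    have h' : x = g⁻¹ u := by rw [← h, Pron.Rich.inv_app]
    rcases hinv g⁻¹ (X.S.inv_mem hg) with ⟨e, -⟩ | ⟨e, -⟩
    · exact hx1 (h'.trans e)
    · exact hx2 (h'.trans e)
  · intro h
    have h' : x = g⁻¹ v := by rw [← h, Pron.Rich.inv_app]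
    rcases hinv g⁻¹ (X.S.inv_mem hg) with ⟨-, e⟩ | ⟨-, e⟩
    · exact hx2 (h'.trans e)
    · exact hx1 (h'.trans e)

theorem not_uv_apply {g : Perm α} (hg : g ∈ X.S) {z : α} (h1 : z ≠ u) (h2 : z ≠ v) :
    g z ≠ u ∧ g z ≠ v := by
  constructor
  · intro h
    have h' : z = g⁻¹ u := by rw [← h, Pron.Rich.inv_app]
    rcases hinv g⁻¹ (X.S.inv_mem hg) with ⟨e, -⟩ | ⟨e, -⟩
    · exact h1 (h'.trans e)
    · exact h2 (h'.trans e)
  · intro h
    have h' : z = g⁻¹ v := by rw [← h, Pron.Rich.inv_app]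
    rcases hinv g⁻¹ (X.S.inv_mem hg) with ⟨-, e⟩ | ⟨-, e⟩
    · exact h2 (h'.trans e)
    · exact h1 (h'.trans e)

theorem Orb_u : X.Orb u = {u, v} := by
  ext z
  rw [Set.mem_insert_iff, Set.mem_singleton_iff]
  constructor
  · rintro ⟨g, hg, rfl⟩
    rcases hinv g hg with ⟨e, -⟩ | ⟨e, -⟩
    · exact Or.inl e
    · exact Or.inr e
  · rintro (h | h)
    · rw [h]; exact X.mem_Orb_self u
    · rw [h, ← hτu]; exact X.Orb_tau (X.mem_Orb_self u)

/-- the decomposable case -/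
theorem decomposable_aux (hn : 6 ≤ Fintype.card α)
    (hmod : Fintype.card α % 4 = 2 ∨ Fintype.card α % 4 = 3)
    (hnp : ∀ r : ℕ, 4 * (Fintype.card α / 4) ≠ 2 ^ r) :
    ∃ A B : Subgroup (Perm α), A ≠ ⊥ ∧ B ≠ ⊥ ∧ Cfsg.IsInternalDirectProduct A B X.Q := by
  classical
  have hτv : X.τ v = u := by rw [← hτu, X.invol]
  have hu : X.τ u ≠ u := by rw [hτu]; exact Ne.symm huv
  have htS : swap u v ∈ X.S := by rw [← hτu]; exact X.swap_mem u
  obtain ⟨x, hx, hxT⟩ := Pron.Rich.exists_nonfixed X.fix1 {u, v} (by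
    have := Finset.card_le_two (a := u) (b := v)
    omega)
  simp only [Finset.mem_insert, Finset.mem_singleton, not_or] at hxT
  have huO := not_uv_of_Orb X huv hτu hinv hxT.1 hxT.2
  -- another orbit
  have hexy : ∃ y, X.τ y ≠ y ∧ y ∉ X.Orb x ∧ y ≠ u ∧ y ≠ v := by
    by_contra hcon
    push_neg at hcon
    obtain ⟨j, hj⟩ := X.card_Orb x
    have hj0 := card_Orb_ne_zero X hx hj
    have hdisj : Disjoint (X.Orb x) ({u, v} : Set α) := by
      rw [Set.disjoint_left]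
      intro z hz hz'
      rw [Set.mem_insert_iff, Set.mem_singleton_iff] at hz'
      rcases hz' with h | h
      · exact (huO z hz).1 h
      · exact (huO z hz).2 h
    have h1 : (X.Orb x ∪ ({u, v} : Set α)).ncard = 2 ^ j + 2 := by
      rw [Set.ncard_union_eq hdisj, hj, Set.ncard_pair huv]
    have h2 : (X.Orb x ∪ ({u, v} : Set α)).ncard ≤ Fintype.card α := by
      have := Set.ncard_le_ncard (Set.subset_univ (X.Orb x ∪ ({u, v} : Set α)))
      rwa [Set.ncard_univ, Nat.card_eq_fintype_card] at this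
    have hF : ({y | X.τ y = y} : Set α).ncard ≤ 1 := by
      rw [Set.ncard_le_one]
      intro a ha b hb
      exact X.fix1 a b ha hb
    have hcover : (Set.univ : Set α) ⊆ (X.Orb x ∪ ({u, v} : Set α)) ∪ {y | X.τ y = y} := by
      intro y _
      by_cases hy : X.τ y = y
      · exact Or.inr hy
      · left
        by_cases hyO : y ∈ X.Orb x
        · exact Or.inl hyO
        · right
          rw [Set.mem_insert_iff, Set.mem_singleton_iff]
          by_cases hyu : y = u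
          · exact Or.inl hyu
          · exact Or.inr (hcon y hy hyO hyu)
    have h3 : Fintype.card α ≤ 2 ^ j + 2 + 1 := by
      have e1 := Set.ncard_le_ncard hcover
      have e2 := Set.ncard_union_le (X.Orb x ∪ ({u, v} : Set α)) {y | X.τ y = y}
      rw [Set.ncard_univ, Nat.card_eq_fintype_card] at e1
      omega
    have h4 : 2 ∣ 2 ^ j := dvd_pow_self 2 hj0
    have h5 := hnp j
    rw [h1] at h2
    omega
  obtain ⟨y, hy, hyO, hyu, hyv⟩ := hexy
  -- the two factors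
  have hTc_inv : ∀ g ∈ X.S, ∀ z, (z ∉ X.Orb x ∧ z ≠ u ∧ z ≠ v) →
      (g z ∉ X.Orb x ∧ g z ≠ u ∧ g z ≠ v) := by
    intro g hg z hz
    exact ⟨X.Orb_compl hg hz.1, (not_uv_apply X huv hτu hinv hg hz.2.1 hz.2.2).1,
      (not_uv_apply X huv hτu hinv hg hz.2.1 hz.2.2).2⟩
  refine ⟨X.Q ⊓ fixG {z | z ∉ X.Orb x ∧ z ≠ u ∧ z ≠ v}, X.Q ⊓ fixG (X.Orb x), ?_, ?_,
    inf_le_left, inf_le_left, ?_, ?_, ?_⟩
  · -- A ≠ ⊥
    intro h
    have hmem : swap x (X.τ x) * swap u (X.τ u) ∈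
        X.Q ⊓ fixG {z | z ∉ X.Orb x ∧ z ≠ u ∧ z ≠ v} := by
      refine ⟨X.dsw_mem_Q hx hu, ?_⟩
      intro z hz
      have n1 : z ≠ x := fun e => hz.1 (e ▸ X.mem_Orb_self x)
      have n2 : z ≠ X.τ x := fun e => hz.1 (e ▸ X.Orb_tau (X.mem_Orb_self x))
      have n4 : z ≠ X.τ u := by rw [hτu]; exact hz.2.2
      rw [Perm.mul_apply, swap_apply_of_ne_of_ne hz.2.1 n4, swap_apply_of_ne_of_ne n1 n2]
    rw [h, Subgroup.mem_bot] at hmem
    have := congrArg (fun f : Perm α => f x) hmem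
    have n4 : x ≠ X.τ u := by rw [hτu]; exact hxT.2
    simp only [Perm.mul_apply, Perm.one_apply] at this
    rw [swap_apply_of_ne_of_ne hxT.1 n4, swap_apply_left] at this
    exact hx this
  · -- B ≠ ⊥
    intro h
    have hmem : swap y (X.τ y) * swap u (X.τ u) ∈ X.Q ⊓ fixG (X.Orb x) := by
      refine ⟨X.dsw_mem_Q hy hu, ?_⟩
      intro z hz
      have n1 : z ≠ y := fun e => hyO (e ▸ hz)
      have n2 : z ≠ X.τ y := by
        intro e
        apply hyO
        have := X.Orb_tau hz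
        rwa [e, X.invol] at this
      have n4 : z ≠ X.τ u := by rw [hτu]; exact (huO z hz).2
      rw [Perm.mul_apply, swap_apply_of_ne_of_ne (huO z hz).1 n4, swap_apply_of_ne_of_ne n1 n2]
    rw [h, Subgroup.mem_bot] at hmem
    have := congrArg (fun f : Perm α => f y) hmem
    have n4 : y ≠ X.τ u := by rw [hτu]; exact hyv
    simp only [Perm.mul_apply, Perm.one_apply] at this
    rw [swap_apply_of_ne_of_ne hyu n4, swap_apply_left] at this
    exact hy this
  · -- commute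
    rintro a ⟨haQ, haT⟩ b ⟨hbQ, hbO⟩
    have haS := X.Q_le haQ
    have hbS := X.Q_le hbQ
    ext z
    show a (b z) = b (a z)
    by_cases hz : z ∈ X.Orb x
    · rw [hbO z hz, hbO _ (X.Orb_apply haS hz)]
    · by_cases hzu : z = u
      · rw [hzu]
        rcases hinv a haS with ⟨a1, a2⟩ | ⟨a1, a2⟩ <;>
          rcases hinv b hbS with ⟨b1, b2⟩ | ⟨b1, b2⟩ <;> simp only [a1, a2, b1, b2]
      · by_cases hzv : z = v
        · rw [hzv]
          rcases hinv a haS with ⟨a1, a2⟩ | ⟨a1, a2⟩ <;>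
            rcases hinv b hbS with ⟨b1, b2⟩ | ⟨b1, b2⟩ <;> simp only [a1, a2, b1, b2]
        · have hzT : z ∉ X.Orb x ∧ z ≠ u ∧ z ≠ v := ⟨hz, hzu, hzv⟩
          rw [haT z hzT, haT _ (hTc_inv b hbS z hzT)]
  · -- trivial intersection
    rw [Subgroup.eq_bot_iff_forall]
    rintro g ⟨⟨hgQ, hgT⟩, ⟨-, hgO⟩⟩
    apply eq_one_of_fix X huv hgQ (hinv g (X.Q_le hgQ))
    intro z hzu hzv
    by_cases hz : z ∈ X.Orb x
    · exact hgO z hz
    · exact hgT z ⟨hz, hzu, hzv⟩
  · -- join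
    apply le_antisymm (sup_le inf_le_left inf_le_left)
    intro q hq
    have hqS := X.Q_le hq
    obtain ⟨h, hh, hh1, hh2⟩ := X.restrict_mem (X.Orb x)
      (fun g hg z hz => X.Orb_apply hg hz) hqS
    obtain ⟨κ, hκ, haQ⟩ : ∃ κ, (κ = 1 ∨ κ = swap u v) ∧ h * κ ∈ X.Q := by
      rcases Int.units_eq_one_or (Perm.sign h) with e | e
      · exact ⟨1, Or.inl rfl, by rw [mul_one]; exact X.mem_Q hh e⟩
      · refine ⟨swap u v, Or.inr rfl, X.mem_Q (X.S.mul_mem hh htS) ?_⟩
        rw [Perm.sign_mul, e, Perm.sign_swap huv]; rfl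
    have hκz : ∀ z, z ≠ u → z ≠ v → κ z = z := by
      intro z h1 h2
      rcases hκ with e | e
      · rw [e, Perm.one_apply]
      · rw [e]; exact swap_apply_of_ne_of_ne h1 h2
    have haA : h * κ ∈ X.Q ⊓ fixG {z | z ∉ X.Orb x ∧ z ≠ u ∧ z ≠ v} := by
      refine ⟨haQ, ?_⟩
      intro z hz
      rw [Perm.mul_apply, hκz z hz.2.1 hz.2.2, hh2 z hz.1]
    have hbB : (h * κ)⁻¹ * q ∈ X.Q ⊓ fixG (X.Orb x) := by
      refine ⟨X.Q.mul_mem (X.Q.inv_mem haQ) hq, ?_⟩
      intro z hz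
      rw [Perm.mul_apply, Perm.inv_eq_iff_eq, Perm.mul_apply, hκz z (huO z hz).1 (huO z hz).2,
        hh1 z hz]
    have e : q = (h * κ) * ((h * κ)⁻¹ * q) := by group
    rw [e]
    exact Subgroup.mul_mem_sup haA hbB

/-- the indecomposable case -/
theorem indec_aux (hn : 6 ≤ Fintype.card α)
    (hmod : Fintype.card α % 4 = 2 ∨ Fintype.card α % 4 = 3) {r : ℕ}
    (hr : 4 * (Fintype.card α / 4) = 2 ^ r) {A B : Subgroup (Perm α)}
    (hD : Cfsg.IsInternalDirectProduct A B X.Q) (hA : A ≠ ⊥) (hB : B ≠ ⊥) : False := by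
  classical
  obtain ⟨x, hx, hxT⟩ := Pron.Rich.exists_nonfixed X.fix1 {u, v} (by
    have := Finset.card_le_two (a := u) (b := v)
    omega)
  simp only [Finset.mem_insert, Finset.mem_singleton, not_or] at hxT
  have hOu := Orb_u X huv hτu hinv
  have hcard : Fintype.card α = 2 ^ r + Fintype.card α % 4 := by omega
  have h4r : 4 ≤ 2 ^ r := by omega
  -- every orbit of a moved point off `{u, v}` is large
  have hbig : ∀ w, X.τ w ≠ w → w ≠ u → w ≠ v → 2 ^ r ≤ (X.Orb w).ncard := by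
    intro w hw hwu hwv
    obtain ⟨j, hj⟩ := X.card_Orb w
    have hj0 := card_Orb_ne_zero X hw hj
    have hj1 : j ≠ 1 := by
      intro h1
      rw [h1, pow_one] at hj
      have hne : w ∉ orbit X.S u := by
        rw [← X.Orb_eq_orbit, hOu, Set.mem_insert_iff, Set.mem_singleton_iff]
        exact fun h => h.elim hwu hwv
      have hc : (orbit X.S u).ncard = (orbit X.S w).ncard := by
        rw [← X.Orb_eq_orbit, ← X.Orb_eq_orbit, hOu, Set.ncard_pair huv, hj]
      exact Pron.TwoOrbits.two_orbits X.P hne hc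
    have hodd := X.odd_choose_of_invariant (X.Orb w) (fun g hg z hz => X.Orb_apply hg hz)
    rw [hj]
    by_contra hlt
    have hjr : j < r := by
      by_contra h
      exact hlt (Nat.pow_le_pow_right (by norm_num) (not_lt.mp h))
    apply hodd
    rw [hj, hcard]
    exact Choose.even_choose_pow_add (by omega) hjr (by omega)
  have hall : ∀ y, X.τ y ≠ y → y ≠ u → y ≠ v → y ∈ X.Orb x := by
    intro y hy hyu hyv
    by_contra hyO
    have h1 := hbig x hx hxT.1 hxT.2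
    have h2 := hbig y hy hyu hyv
    have hdisj : Disjoint (X.Orb x) (X.Orb y) := by
      rw [Set.disjoint_left]
      intro z hzx hzy
      exact hyO (X.Orb_trans hzx (X.Orb_symm hzy))
    have h3 : (X.Orb x ∪ X.Orb y).ncard ≤ Fintype.card α := by
      have := Set.ncard_le_ncard (Set.subset_univ (X.Orb x ∪ X.Orb y))
      rwa [Set.ncard_univ, Nat.card_eq_fintype_card] at this
    rw [Set.ncard_union_eq hdisj] at h3
    omega
  refine Center.indec_of_big_orbit X hn x ?_ hD hA hB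
  intro g hg hfix
  apply eq_one_of_fix X huv hg (hinv g (X.Q_le hg))
  intro z hzu hzv
  by_cases hz : X.τ z = z
  · exact X.fix_of_tau (X.Q_le hg) hz
  · exact hfix z (hall z hz hzu hzv)

end uv

theorem decomposable (hn : 6 ≤ Fintype.card α)
    (hmod : Fintype.card α % 4 = 2 ∨ Fintype.card α % 4 = 3)
    (hnp : ∀ r : ℕ, 4 * (Fintype.card α / 4) ≠ 2 ^ r) :
    ∃ A B : Subgroup (Perm α), A ≠ ⊥ ∧ B ≠ ⊥ ∧ Cfsg.IsInternalDirectProduct A B X.Q := by
  obtain ⟨u, v, huv, hτu, hinv⟩ := exists_uv X hmod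
  exact decomposable_aux X huv hτu hinv hn hmod hnp

theorem indec23 (hn : 6 ≤ Fintype.card α)
    (hmod : Fintype.card α % 4 = 2 ∨ Fintype.card α % 4 = 3) {r : ℕ}
    (hr : 4 * (Fintype.card α / 4) = 2 ^ r) {A B : Subgroup (Perm α)}
    (hD : Cfsg.IsInternalDirectProduct A B X.Q) (hA : A ≠ ⊥) (hB : B ≠ ⊥) : False := by
  obtain ⟨u, v, huv, hτu, hinv⟩ := exists_uv X hmod
  exact indec_aux X huv hτu hinv hn hmod hr hD hA hB

end Cfsg.Agent.Helper95.Dec.Odd
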