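import Mathlib
import Cfsg.Prelude.Def_TwoFusion

set_option autoImplicit false
set_option linter.unusedSectionVars false

namespace Cfsg.Agent.Helper95.Dec.Small

open Equiv

theorem mem_zp {G : Type*} [Group G] {g : G} (hg : g * g = 1) {x : G}
    (hx : x ∈ Subgroup.zpowers g) : x = 1 ∨ x = g := by
  obtain ⟨k, rfl⟩ := Subgroup.mem_zpowers_iff.mp hx
  have h2 : g ^ (2 : ℤ) = 1 := by rw [zpow_two, hg]
  rcases Int.even_or_odd' k with ⟨m, rfl | rfl⟩
  · left; rw [zpow_mul, h2, one_zpow]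
  · right; rw [zpow_add_one, zpow_mul, h2, one_zpow, one_mul]

/-- a group of order four and exponent two is a product of two groups of order two -/
theorem v4 {G : Type*} [Group G] [Finite G] (P : Subgroup G) (hcard : Nat.card P = 4)
    (hsq : ∀ g ∈ P, g * g = 1) :
    ∃ S₁ S₂ : Subgroup G, S₁ ≠ ⊥ ∧ S₂ ≠ ⊥ ∧ Cfsg.IsInternalDirectProduct S₁ S₂ P := by
  haveI : Fact (Nat.Prime 2) := ⟨Nat.prime_two⟩
  have hPne : P ≠ ⊥ := by
    intro h; rw [h, Subgroup.card_bot] at hcard; omega
  obtain ⟨a, haP, ha1⟩ : ∃ a ∈ P, a ≠ 1 := by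
    by_contra hc
    push_neg at hc
    exact hPne ((Subgroup.eq_bot_iff_forall P).mpr hc)
  have haa := hsq a haP
  have hca : Nat.card (Subgroup.zpowers a) = 2 := by
    rw [Nat.card_zpowers]
    exact orderOf_eq_prime (by rw [pow_two, haa]) ha1
  have hS1 : Subgroup.zpowers a ≤ P := (Subgroup.zpowers_le).mpr haP
  obtain ⟨b, hbP, hbS⟩ : ∃ b ∈ P, b ∉ Subgroup.zpowers a := by
    by_contra hc
    push_neg at hc
    have hle : P ≤ Subgroup.zpowers a := hc
    have := Subgroup.card_le_of_le hle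
    omega
  have hbb := hsq b hbP
  have hb1 : b ≠ 1 := fun h => hbS (h ▸ (Subgroup.zpowers a).one_mem)
  have hS2 : Subgroup.zpowers b ≤ P := (Subgroup.zpowers_le).mpr hbP
  have hcomm : ∀ g ∈ P, ∀ h ∈ P, g * h = h * g := by
    intro g hg h hh
    have e1 := hsq g hg
    have e2 := hsq h hh
    have e3 := hsq (g * h) (P.mul_mem hg hh)
    calc g * h = g * (g * h * (g * h)) * h := by rw [e3, mul_one]
      _ = (g * g) * (h * g) * (h * h) := by group
      _ = h * g := by rw [e1, e2, one_mul, mul_one]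
  refine ⟨Subgroup.zpowers a, Subgroup.zpowers b, ?_, ?_, hS1, hS2, ?_, ?_, ?_⟩
  · intro h
    have : a ∈ Subgroup.zpowers a := Subgroup.mem_zpowers a
    rw [h, Subgroup.mem_bot] at this
    exact ha1 this
  · intro h
    have : b ∈ Subgroup.zpowers b := Subgroup.mem_zpowers b
    rw [h, Subgroup.mem_bot] at this
    exact hb1 this
  · intro x hx y hy
    exact hcomm x (hS1 hx) y (hS2 hy)
  · rw [Subgroup.eq_bot_iff_forall]
    rintro x ⟨hx1, hx2⟩
    rcases mem_zp haa hx1 with h | h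
    · exact h
    · rcases mem_zp hbb hx2 with h' | h'
      · exact h'
      · exfalso
        apply hbS
        rw [← h', h]
        exact Subgroup.mem_zpowers a
  · have hK : Subgroup.zpowers a ⊔ Subgroup.zpowers b ≤ P := sup_le hS1 hS2
    have h1 : Nat.card (Subgroup.zpowers a) ∣
        Nat.card (Subgroup.zpowers a ⊔ Subgroup.zpowers b : Subgroup G) :=
      Subgroup.card_dvd_of_le le_sup_left
    have h2 : Nat.card (Subgroup.zpowers a ⊔ Subgroup.zpowers b : Subgroup G) ∣ Nat.card P :=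
      Subgroup.card_dvd_of_le hK
    rw [hca] at h1
    rw [hcard] at h2
    have h3 : Nat.card (Subgroup.zpowers a ⊔ Subgroup.zpowers b : Subgroup G) ≠ 2 := by
      intro h
      have heq : Subgroup.zpowers a = Subgroup.zpowers a ⊔ Subgroup.zpowers b :=
        Subgroup.eq_of_le_of_card_ge le_sup_left (by rw [h, hca])
      apply hbS
      rw [heq]
      exact Subgroup.mem_sup_right (Subgroup.mem_zpowers b)
    have h4 : Nat.card (Subgroup.zpowers a ⊔ Subgroup.zpowers b : Subgroup G) = 4 := by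
      have hle := Nat.le_of_dvd (by norm_num) h2
      obtain ⟨c, hc⟩ := h1
      obtain ⟨d, hd⟩ := h2
      have : c = 1 ∨ c = 2 := by
        have hc2 : c ≤ 2 := by omega
        have hc0 : c ≠ 0 := by
          intro h0
          rw [h0, mul_zero] at hc
          rw [hc, zero_mul] at hd
          omega
        omega
      rcases this with h | h
      · exfalso; apply h3; rw [hc, h]
      · rw [hc, h]
    exact Subgroup.eq_of_le_of_card_ge hK (by rw [h4, hcard])

theorem card_four {G : Type*} [Group G] [Finite G] (P : Sylow 2 G) (h4 : 2 ^ 2 ∣ Nat.card G)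
    (h8 : ¬ 2 ^ 3 ∣ Nat.card G) : Nat.card (P : Subgroup G) = 4 := by
  haveI : Fact (Nat.Prime 2) := ⟨Nat.prime_two⟩
  have hne : Nat.card G ≠ 0 := Nat.card_pos.ne'
  rw [P.card_eq_multiplicity]
  have h1 := (Nat.Prime.pow_dvd_iff_le_factorization Nat.prime_two hne).mp h4
  have h2 : ¬ 3 ≤ (Nat.card G).factorization 2 := fun h =>
    h8 ((Nat.Prime.pow_dvd_iff_le_factorization Nat.prime_two hne).mpr h)
  have : (Nat.card G).factorization 2 = 2 := by omega
  rw [this]
  norm_num

set_option maxRecDepth 100000 in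
theorem sq4 : ∀ g : Perm (Fin 4), Perm.sign g = 1 → g ^ 4 = 1 → g ^ 2 = 1 := by decide

set_option maxRecDepth 100000 in
theorem sq5 : ∀ g : Perm (Fin 5), Perm.sign g = 1 → g ^ 4 = 1 → g ^ 2 = 1 := by decide

theorem small_aux (n : ℕ) [Nontrivial (Fin n)]
    (hsq : ∀ g : Perm (Fin n), Perm.sign g = 1 → g ^ 4 = 1 → g ^ 2 = 1)
    (h4 : 2 ^ 2 ∣ n.factorial / 2) (h8 : ¬ 2 ^ 3 ∣ n.factorial / 2)
    (P : Sylow 2 (alternatingGroup (Fin n))) :
    ∃ S₁ S₂ : Subgroup (alternatingGroup (Fin n)), S₁ ≠ ⊥ ∧ S₂ ≠ ⊥ ∧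
      Cfsg.IsInternalDirectProduct S₁ S₂ (P : Subgroup (alternatingGroup (Fin n))) := by
  have hc : Nat.card (alternatingGroup (Fin n)) = n.factorial / 2 := by
    rw [nat_card_alternatingGroup, Nat.card_eq_fintype_card, Fintype.card_fin]
  have hcard : Nat.card (P : Subgroup (alternatingGroup (Fin n))) = 4 :=
    card_four P (by rw [hc]; exact h4) (by rw [hc]; exact h8)
  apply v4 _ hcard
  intro g hg
  have h1 : (⟨g, hg⟩ : (P : Subgroup (alternatingGroup (Fin n)))) ^ 4 = 1 := by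
    rw [← hcard]; exact pow_card_eq_one'
  have h2 : g ^ 4 = 1 := congrArg Subtype.val h1
  have h3 : (g : Perm (Fin n)) ^ 4 = 1 := congrArg Subtype.val h2
  have h5 := hsq g.1 (Perm.mem_alternatingGroup.mp g.2) h3
  apply Subtype.ext
  show (g : Perm (Fin n)) * (g : Perm (Fin n)) = 1
  rw [← pow_two]; exact h5

theorem small (n : ℕ) (hn : n = 4 ∨ n = 5) (P : Sylow 2 (alternatingGroup (Fin n))) :
    ∃ S₁ S₂ : Subgroup (alternatingGroup (Fin n)), S₁ ≠ ⊥ ∧ S₂ ≠ ⊥ ∧
      Cfsg.IsInternalDirectProduct S₁ S₂ (P : Subgroup (alternatingGroup (Fin n))) := by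
  rcases hn with rfl | rfl
  · exact small_aux 4 sq4 (by decide) (by decide) P
  · exact small_aux 5 sq5 (by decide) (by decide) P

end Cfsg.Agent.Helper95.Dec.Small
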